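import Groth.Agent.ZetaLib.PointsOfExt
import Groth.Agent.WeilLib.Cycles
import Groth.Prelude.Def_CohB1
import Mathlib.AlgebraicGeometry.ProjectiveSpectrum.Proper
import Mathlib.RingTheory.MvPolynomial.Ideal
import Mathlib.FieldTheory.Finite.Extension
import Mathlib.Algebra.Field.ULift

/-!
# Points of projective space with values in a field
-/

universe u

open CategoryTheory AlgebraicGeometry
open HomogeneousLocalization (Away)

namespace Groth.Agent.ZetaLib

noncomputable section

variable (n : ℕ) (k : Type u) [Field k]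

local notation "𝒜" => CohB1.polyGrading n k
local notation "T" => (MvPolynomial.X : Fin (n + 1) → MvPolynomial (Fin (n + 1)) k)

theorem X_mem_one (j : Fin (n + 1)) : T j ∈ 𝒜 1 := MvPolynomial.isHomogeneous_X k j

/-- The coordinate `T_j / T_i` on the chart `D₊(T_i)`. -/
def coord (i j : Fin (n + 1)) : Away 𝒜 (T i) :=
  Away.mk 𝒜 (X_mem_one n k i) 1 (T j) (by rw [one_smul]; exact X_mem_one n k j)

/-- The structure map of the chart. -/
def base (i : Fin (n + 1)) : k →+* Away 𝒜 (T i) :=
  (HomogeneousLocalization.fromZeroRingHom 𝒜 _).comp (algebraMap k (𝒜 0))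

/-- Dehomogenisation with respect to `T_i`. -/
def dehom (i : Fin (n + 1)) : MvPolynomial (Fin (n + 1)) k →+* Away 𝒜 (T i) :=
  MvPolynomial.eval₂Hom (base n k i) (coord n k i)

theorem val_base (i : Fin (n + 1)) (c : k) :
    (base n k i c).val = algebraMap (MvPolynomial (Fin (n + 1)) k) _ (MvPolynomial.C c) := by
  show (HomogeneousLocalization.mk _).val = _
  rw [HomogeneousLocalization.val_mk, ← Localization.mk_one_eq_algebraMap]
  rfl

theorem val_coord (i j : Fin (n + 1)) :
    (coord n k i j).val * algebraMap (MvPolynomial (Fin (n + 1)) k) _ (T i) =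
      algebraMap (MvPolynomial (Fin (n + 1)) k) (Localization (Submonoid.powers (T i))) (T j) := by
  rw [coord, HomogeneousLocalization.Away.val_mk, ← Localization.mk_one_eq_algebraMap,
    ← Localization.mk_one_eq_algebraMap, Localization.mk_mul, Localization.mk_eq_mk_iff,
    Localization.r_iff_exists]
  exact ⟨1, by simp [mul_comm]⟩

theorem val_dehom_mul (i : Fin (n + 1)) {m : ℕ} {x : MvPolynomial (Fin (n + 1)) k}
    (hx : x.IsHomogeneous m) :
    (dehom n k i x).val * algebraMap _ _ (T i) ^ m =
      algebraMap (MvPolynomial (Fin (n + 1)) k) (Localization (Submonoid.powers (T i))) x := by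
  classical
  let val : Away 𝒜 (T i) →+* Localization (Submonoid.powers (T i)) := algebraMap _ _
  show val (dehom n k i x) * _ = _
  have hsum := x.as_sum
  rw [hsum, map_sum, map_sum, map_sum, Finset.sum_mul]
  refine Finset.sum_congr rfl fun d hd => ?_
  have hdeg : ∑ j ∈ d.support, d j = m := by
    have := hx (MvPolynomial.mem_support_iff.1 hd)
    rwa [Finsupp.weight_apply, Finsupp.sum, Finset.sum_congr rfl fun j _ => (by simp : d j • (1 : Fin (n+1) → ℕ) j = d j)] at this
  rw [MvPolynomial.monomial_eq, Finsupp.prod, map_mul, map_mul, map_mul, map_prod, map_prod,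
    map_prod, ← hdeg, ← Finset.prod_pow_eq_pow_sum, mul_assoc, ← Finset.prod_mul_distrib]
  congr 1
  · show val (dehom n k i (MvPolynomial.C _)) = _
    rw [dehom, MvPolynomial.eval₂Hom_C]
    exact val_base n k i _
  · refine Finset.prod_congr rfl fun j _ => ?_
    rw [map_pow, map_pow, map_pow, ← mul_pow]
    congr 1
    rw [dehom, MvPolynomial.eval₂Hom_X']
    exact val_coord n k i j

/-- Every element of the chart is the dehomogenisation of a polynomial. -/
theorem surjective_dehom (i : Fin (n + 1)) : Function.Surjective (dehom n k i) := by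
  intro z
  obtain ⟨m, x, hx, rfl⟩ := HomogeneousLocalization.Away.mk_surjective 𝒜 (X_mem_one n k i) z
  refine ⟨x, HomogeneousLocalization.val_injective _ ?_⟩
  have hu : IsUnit (algebraMap (MvPolynomial (Fin (n + 1)) k)
      (Localization (Submonoid.powers (T i))) (T i) ^ m) :=
    (IsLocalization.map_units _ (⟨T i, 1, pow_one _⟩ : Submonoid.powers (T i))).pow m
  refine hu.mul_left_injective ?_
  show _ * _ = _ * _
  rw [val_dehom_mul n k i (by simpa using hx), HomogeneousLocalization.Away.val_mk,
    ← map_pow, ← Localization.mk_one_eq_algebraMap, ← Localization.mk_one_eq_algebraMap,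
    Localization.mk_mul, Localization.mk_eq_mk_iff, Localization.r_iff_exists]
  exact ⟨1, by simp [mul_comm]⟩

variable {n k} {K : Type u} [Field K] [Algebra k K]

omit [Algebra k K] in
theorem ringHom_eq_iff (i : Fin (n + 1)) {φ ψ : Away 𝒜 (T i) →+* K}
    (hb : φ.comp (base n k i) = ψ.comp (base n k i))
    (hc : ∀ j, φ (coord n k i j) = ψ (coord n k i j)) : φ = ψ := by
  refine RingHom.ext fun z => ?_
  obtain ⟨x, rfl⟩ := surjective_dehom n k i z
  have : φ.comp (dehom n k i) = ψ.comp (dehom n k i) := MvPolynomial.ringHom_ext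
    (fun c => by simpa [dehom] using RingHom.congr_fun hb c) fun j => by simpa [dehom] using hc j
  exact RingHom.congr_fun this x

/-- Evaluation at a vector with `v i = 1`. -/
def evalAt (i : Fin (n + 1)) (v : Fin (n + 1) → K) (hv : v i = 1) : Away 𝒜 (T i) →+* K :=
  (IsLocalization.Away.lift (T i) (S := Localization (Submonoid.powers (T i)))
      (g := MvPolynomial.eval₂Hom (algebraMap k K) v) (by simp [hv])).comp
    (algebraMap (Away 𝒜 (T i)) (Localization (Submonoid.powers (T i))))

theorem evalAt_base (i : Fin (n + 1)) (v : Fin (n + 1) → K) (hv : v i = 1) :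
    (evalAt i v hv).comp (base n k i) = algebraMap k K := by
  refine RingHom.ext fun c => ?_
  simp only [evalAt, RingHom.comp_apply, HomogeneousLocalization.algebraMap_apply, val_base,
    IsLocalization.Away.lift_eq, MvPolynomial.eval₂Hom_C]

theorem evalAt_coord (i : Fin (n + 1)) (v : Fin (n + 1) → K) (hv : v i = 1) (j : Fin (n + 1)) :
    evalAt i v hv (coord n k i j) = v j := by
  have h := congrArg (IsLocalization.Away.lift (T i) (S := Localization (Submonoid.powers (T i)))
      (g := MvPolynomial.eval₂Hom (algebraMap k K) v) (by simp [hv])) (val_coord n k i j)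
  simp only [map_mul, IsLocalization.Away.lift_eq, MvPolynomial.eval₂Hom_X', hv, mul_one] at h
  exact h

variable (n k) in
/-- The chart. -/
def chart (i : Fin (n + 1)) : Spec (.of (Away 𝒜 (T i))) ⟶ CohB1.ProjSpace n k :=
  Proj.awayι 𝒜 (T i) (X_mem_one n k i) Nat.one_pos

instance (i : Fin (n + 1)) : IsOpenImmersion (chart n k i) :=
  inferInstanceAs (IsOpenImmersion (Proj.awayι 𝒜 (T i) (X_mem_one n k i) Nat.one_pos))

theorem chart_toSpec (i : Fin (n + 1)) :
    chart n k i ≫ CohB1.ProjSpace.toSpec n k = Spec.map (CommRingCat.ofHom (base n k i)) := by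
  show Proj.awayι 𝒜 (T i) (X_mem_one n k i) Nat.one_pos ≫ Proj.toSpecZero 𝒜 ≫ _ = _
  rw [← Category.assoc, Proj.awayι_toSpecZero, ← Spec.map_comp]
  rfl

theorem mem_range_chart (j : Fin (n + 1)) (x : CohB1.ProjSpace n k) :
    x ∈ Set.range (chart n k j) ↔
      x ∈ ((Proj.basicOpen 𝒜 (T j) : (Proj 𝒜).Opens) : Set (Proj 𝒜)) := by
  rw [← Proj.opensRange_awayι 𝒜 (T j) (X_mem_one n k j) Nat.one_pos]
  rfl

/-- The point with the given chart coordinates. -/
def pointAt (i : Fin (n + 1)) (v : Fin (n + 1) → K) (hv : v i = 1) :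
    Spec (.of K) ⟶ CohB1.ProjSpace n k :=
  Spec.map (CommRingCat.ofHom (evalAt i v hv)) ≫ chart n k i

theorem pointAt_mem_iff (i : Fin (n + 1)) (v : Fin (n + 1) → K) (hv : v i = 1) (j : Fin (n + 1)) :
    pointAt i v hv (IsLocalRing.closedPoint K) ∈ Set.range (chart n k j) ↔ v j ≠ 0 := by
  rw [mem_range_chart]
  show Spec.map (CommRingCat.ofHom (evalAt i v hv)) (IsLocalRing.closedPoint K) ∈
    Proj.awayι 𝒜 (T i) (X_mem_one n k i) Nat.one_pos ⁻¹ᵁ Proj.basicOpen 𝒜 (T j) ↔ _
  rw [Proj.awayι_preimage_basicOpen 𝒜 (X_mem_one n k i) Nat.one_pos (X_mem_one n k j) Nat.one_pos]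
  show evalAt i v hv (HomogeneousLocalization.Away.isLocalizationElem (X_mem_one n k i)
    (X_mem_one n k j)) ∉ IsLocalRing.maximalIdeal K ↔ _
  have : HomogeneousLocalization.Away.isLocalizationElem (X_mem_one n k i) (X_mem_one n k j) =
      coord n k i j := HomogeneousLocalization.val_injective _ (by simp [coord])
  rw [this, evalAt_coord, IsLocalRing.mem_maximalIdeal, mem_nonunits_iff, isUnit_iff_ne_zero,
    not_not]

theorem exists_mem_chart (x : CohB1.ProjSpace n k) : ∃ i, x ∈ Set.range (chart n k i) := by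
  have h := Proj.iSup_basicOpen_eq_top 𝒜 T (by
    intro p hp
    have hp0 : MvPolynomial.coeff 0 p = 0 := by
      have hp' := (HomogeneousIdeal.mem_irrelevant_iff 𝒜 p).1 hp
      rw [GradedRing.proj_apply] at hp'
      have h0 : MvPolynomial.homogeneousComponent 0 p = 0 :=
        (MvPolynomial.decomposition.decompose'_apply p 0).symm.trans hp'
      rw [MvPolynomial.homogeneousComponent_zero] at h0
      exact MvPolynomial.C_eq_zero.1 h0
    rw [← Set.image_univ, MvPolynomial.mem_ideal_span_X_image]
    intro m hm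
    by_contra! hno
    have : m = 0 := Finsupp.ext fun i => hno i (Set.mem_univ i)
    subst this
    exact MvPolynomial.mem_support_iff.1 hm hp0)
  obtain ⟨i, hi⟩ := TopologicalSpace.Opens.mem_iSup.1 (show x ∈ ⨆ i, Proj.basicOpen 𝒜 (T i) by
    rw [h]; trivial)
  exact ⟨i, (mem_range_chart i x).2 hi⟩

/-- Normalised coordinates: the first nonzero one is `1`. -/
abbrev Normalized (n : ℕ) (K : Type u) [Field K] : Type u :=
  Σ i : Fin (n + 1), {v : Fin (n + 1) → K // v i = 1 ∧ ∀ j < i, v j = 0}

variable (n k K) in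
theorem card_points [Finite K] :
    SgaExt.pointCount (CohB1.ProjSpace.toSpec n k) K =
      ∑ i ∈ Finset.range (n + 1), Nat.card K ^ i := by
  classical
  have hover : ∀ (i : Fin (n + 1)) (φ : Away 𝒜 (T i) →+* K),
      (Spec.map (CommRingCat.ofHom φ) ≫ chart n k i) ≫ CohB1.ProjSpace.toSpec n k =
        Spec.map (CommRingCat.ofHom (algebraMap k K)) ↔ φ.comp (base n k i) = algebraMap k K := by
    intro i φ
    rw [Category.assoc, chart_toSpec, ← Spec.map_comp, Spec.map_inj, ← CommRingCat.ofHom_comp]
    exact ⟨fun h => congrArg CommRingCat.Hom.hom h, fun h => congrArg CommRingCat.ofHom h⟩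
  let F : Normalized n K → {g : Spec (CommRingCat.of K) ⟶ CohB1.ProjSpace n k //
      g ≫ CohB1.ProjSpace.toSpec n k = Spec.map (CommRingCat.ofHom (algebraMap k K))} :=
    fun t => ⟨pointAt t.1 t.2.1 t.2.2.1, (hover _ _).2 (evalAt_base _ _ _)⟩
  have hF : Function.Bijective F := by
    constructor
    · rintro ⟨i, v, hv, hv'⟩ ⟨j, w, hw, hw'⟩ h
      have h' : pointAt i v hv = pointAt j w hw := congrArg Subtype.val h
      have hiff : ∀ l, v l ≠ 0 ↔ w l ≠ 0 := fun l => by
        rw [← pointAt_mem_iff (k := k) i v hv, h', pointAt_mem_iff]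
      obtain rfl : i = j := by
        rcases lt_trichotomy i j with hlt | he | hlt
        · exact absurd (hw' i hlt) ((hiff i).1 (by rw [hv]; exact one_ne_zero))
        · exact he
        · exact absurd (hv' j hlt) ((hiff j).2 (by rw [hw]; exact one_ne_zero))
      have h2 := congrArg CommRingCat.Hom.hom (Spec.map_injective ((cancel_mono (chart n k i)).1 h'))
      obtain rfl : v = w := funext fun l => by
        rw [← evalAt_coord (k := k) i v hv l, ← evalAt_coord (k := k) i w hw l]
        exact RingHom.congr_fun h2 _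
      rfl
    · rintro ⟨g, hg⟩
      let S := Finset.univ.filter fun i => g (IsLocalRing.closedPoint K) ∈ Set.range (chart n k i)
      obtain ⟨i₀, hi₀⟩ := exists_mem_chart (n := n) (k := k) (g (IsLocalRing.closedPoint K))
      obtain ⟨i, hi, hmin⟩ : ∃ i, g (IsLocalRing.closedPoint K) ∈ Set.range (chart n k i) ∧
          ∀ j < i, g (IsLocalRing.closedPoint K) ∉ Set.range (chart n k j) :=
        ⟨S.min' ⟨i₀, Finset.mem_filter.2 ⟨Finset.mem_univ _, hi₀⟩⟩,
          (Finset.mem_filter.1 (S.min'_mem _)).2, fun j hj hjS =>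
            (not_le.2 hj) (S.min'_le j (Finset.mem_filter.2 ⟨Finset.mem_univ _, hjS⟩))⟩
      have hsub : Set.range g ⊆ Set.range (chart n k i) := by
        rintro _ ⟨y, rfl⟩
        obtain rfl : y = IsLocalRing.closedPoint K := Subsingleton.elim _ _
        exact hi
      obtain ⟨φ, hφ⟩ : ∃ φ : Away 𝒜 (T i) →+* K,
          Spec.map (CommRingCat.ofHom φ) ≫ chart n k i = g :=
        ⟨(Spec.preimage (IsOpenImmersion.lift (chart n k i) g hsub)).hom, by
          rw [CommRingCat.ofHom_hom, Spec.map_preimage, IsOpenImmersion.lift_fac]⟩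
      have hb : φ.comp (base n k i) = algebraMap k K := (hover i φ).1 (by rw [hφ]; exact hg)
      have hii : φ (coord n k i i) = 1 := by
        rw [← map_one φ]
        congr 1
        refine HomogeneousLocalization.val_injective _ ?_
        rw [coord, HomogeneousLocalization.Away.val_mk, HomogeneousLocalization.val_one,
          ← Localization.mk_self (⟨T i ^ 1, 1, rfl⟩ : Submonoid.powers (T i))]
        simp only [pow_one]
      have heq : pointAt i (fun l => φ (coord n k i l)) hii = g := by
        rw [pointAt, ringHom_eq_iff i (φ := evalAt i _ hii) (ψ := φ)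
          (by rw [evalAt_base, hb]) fun l => evalAt_coord i _ hii l, hφ]
      refine ⟨⟨i, fun l => φ (coord n k i l), hii, fun j hj => ?_⟩, Subtype.ext heq⟩
      by_contra hne
      have hm := (pointAt_mem_iff (k := k) i (fun l => φ (coord n k i l)) hii j).2 hne
      rw [heq] at hm
      exact hmin j hj hm
  have hcard : ∀ i : Fin (n + 1),
      Nat.card {v : Fin (n + 1) → K // v i = 1 ∧ ∀ j < i, v j = 0} = Nat.card K ^ (n - i) := by
    intro i
    let e : {v : Fin (n + 1) → K // v i = 1 ∧ ∀ j < i, v j = 0} ≃ (Finset.Ioi i → K) :=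
      { toFun := fun v l => v.1 l
        invFun := fun w => ⟨fun l => if h : i < l then w ⟨l, Finset.mem_Ioi.2 h⟩ else
            if l = i then 1 else 0, by simp, fun j hj => by
              dsimp only
              rw [dif_neg (not_lt.2 hj.le), if_neg hj.ne]⟩
        left_inv := fun v => Subtype.ext (funext fun l => by
          rcases lt_trichotomy l i with hl | hl | hl
          · simp [not_lt.2 hl.le, hl.ne, v.2.2 l hl]
          · simp [hl, v.2.1]
          · simp [hl])
        right_inv := fun w => funext fun l => by simp [Finset.mem_Ioi.1 l.2] }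
    rw [Nat.card_congr e, Nat.card_fun, Nat.card_eq_finsetCard, Fin.card_Ioi]
    congr 1
  rw [SgaExt.pointCount, ← Nat.card_congr (Equiv.ofBijective F hF), Nat.card_sigma]
  simp only [hcard]
  rw [Fin.sum_univ_eq_sum_range (fun i => Nat.card K ^ (n - i)) (n + 1)]
  exact Finset.sum_range_reflect (fun i => Nat.card K ^ i) (n + 1)

section Zeta

instance locallyOfFiniteType_projSpace (n : ℕ) (R : Type u) [CommRing R] :
    LocallyOfFiniteType (CohB1.ProjSpace.toSpec n R) := by
  have : IsScalarTower R (CohB1.polyGrading n R 0) (MvPolynomial (Fin (n + 1)) R) :=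
    IsScalarTower.of_algebraMap_eq' (R := R) (S := CohB1.polyGrading n R 0)
      (A := MvPolynomial (Fin (n + 1)) R) (RingHom.ext fun _ => rfl)
  have : Algebra.FiniteType (CohB1.polyGrading n R 0) (MvPolynomial (Fin (n + 1)) R) :=
    Algebra.FiniteType.of_restrictScalars_finiteType R _ _
  have hbij : Function.Surjective (algebraMap R (CohB1.polyGrading n R 0)) := fun x => by
    refine ⟨MvPolynomial.coeff 0 x.1, Subtype.ext ?_⟩
    show MvPolynomial.C (MvPolynomial.coeff 0 x.1) = x.1
    rw [← MvPolynomial.homogeneousComponent_zero, MvPolynomial.homogeneousComponent_of_mem x.2,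
      if_pos rfl]
  have h1 : LocallyOfFiniteType (Proj.toSpecZero (CohB1.polyGrading n R)) := inferInstance
  have h2 : LocallyOfFiniteType
      (Spec.map (CommRingCat.ofHom (algebraMap R (CohB1.polyGrading n R 0)))) := by
    rw [HasRingHomProperty.Spec_iff (P := @LocallyOfFiniteType)]
    exact RingHom.FiniteType.of_surjective _ hbij
  exact MorphismProperty.comp_mem @LocallyOfFiniteType _ _ h1 h2

/-- **The zeta function of projective space.** -/
theorem zetaFun_projSpace (k : Type u) [Field k] [Finite k] (n : ℕ) :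
    Zeta.zetaFun (CohB1.ProjSpace.toSpec n k) *
      ∏ i ∈ Finset.range (n + 1), (1 - PowerSeries.C ((Nat.card k : ℚ) ^ i) * PowerSeries.X) = 1 := by
  classical
  obtain ⟨p, hp⟩ := CharP.exists k
  have : Fact p.Prime := ⟨CharP.char_is_prime k p⟩
  let P : Polynomial ℤ := ∑ i ∈ Finset.range (n + 1), Polynomial.X ^ i
  have hcoeff : ∀ i, P.coeff i = if i < n + 1 then 1 else 0 := fun i => by
    simp [P, Polynomial.finsetSum_coeff, Polynomial.coeff_X_pow]
  have hdeg : P.natDegree = n := Polynomial.natDegree_eq_of_le_of_coeff_ne_zero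
    (Polynomial.natDegree_sum_le_of_forall_le _ _ fun i hi => by
      rw [Polynomial.natDegree_X_pow]; exact Nat.lt_succ_iff.1 (Finset.mem_range.1 hi))
    (by rw [hcoeff, if_pos (Nat.lt_succ_self n)]; exact one_ne_zero)
  have hP : ∀ m : ℕ, 1 ≤ m → (Zeta.nPts (CohB1.ProjSpace.toSpec n k) m : ℤ) =
      P.eval ((Nat.card k : ℤ) ^ m) := by
    intro m hm
    have : NeZero m := ⟨by omega⟩
    have := Fintype.ofFinite k
    let K' := ULift.{u} (FiniteField.Extension k p m)
    have h1 := pointCount_eq_nPts (CohB1.ProjSpace.toSpec n k) K'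
    have hfr : Module.finrank k K' = m :=
      ULift.moduleEquiv.finrank_eq.trans (FiniteField.finrank_extension k p m)
    rw [card_points n k K', hfr] at h1
    rw [← h1, Module.natCard_eq_pow_finrank (K := k) (V := K'), hfr, Polynomial.eval_finset_sum]
    push_cast
    simp
  have h := zetaFun_mul_prod_of_count (CohB1.ProjSpace.toSpec n k) (Nat.card k) P hP
  rw [hdeg] at h
  have e1 : ∀ i ∈ Finset.range (n + 1), (1 - PowerSeries.C ((Nat.card k : ℚ) ^ i) * PowerSeries.X) ^
      (P.coeff i).toNat = 1 - PowerSeries.C ((Nat.card k : ℚ) ^ i) * PowerSeries.X := fun i hi => by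
    rw [hcoeff, if_pos (Finset.mem_range.1 hi), Int.toNat_one, pow_one]
  have e2 : ∀ i ∈ Finset.range (n + 1), (1 - PowerSeries.C ((Nat.card k : ℚ) ^ i) * PowerSeries.X) ^
      (-P.coeff i).toNat = 1 := fun i hi => by
    rw [hcoeff, if_pos (Finset.mem_range.1 hi)]
    rfl
  rwa [Finset.prod_congr rfl e1, Finset.prod_congr rfl e2, Finset.prod_const_one] at h

end Zeta

end

end Groth.Agent.ZetaLib
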