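import Groth.Agent.ZetaLib.ZetaProduct
import Mathlib.FieldTheory.IsAlgClosed.AlgebraicClosure

/-!
# The number of points with values in a finite extension is `Zeta.nPts`
-/

universe u

open CategoryTheory AlgebraicGeometry

namespace Groth.Agent.ZetaLib

open Groth.Agent.WeilLib

noncomputable section

variable {k : Type u} [Field k] [Finite k] {X : Scheme.{u}} (f : X ⟶ Spec (CommRingCat.of k))

/-- The counting step: points fixed by the `q^n`-power map over all points of `X`. -/
theorem card_sigma_pointsOver [LocallyOfFiniteType f] [QuasiCompact f]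
    {K : Type u} [Field K] [IsAlgClosed K] [Algebra k K] {n : ℕ} (hn : 0 < n) :
    Nat.card (Σ x : X, PointsOver f (k := K) x n) = Zeta.nPts f n := by
  classical
  let S := {x : X // EGA4loc.residueDegree f x ∣ n}
  have hSfin : Finite S := by
    let g : S → Σ e : n.divisors, {x : X // IsClosed ({x} : Set X) ∧
        EGA4loc.residueDegree f x = e.1} := fun x =>
      ⟨⟨_, Nat.mem_divisors.2 ⟨x.2, hn.ne'⟩⟩, x.1, isClosed_of_finite f _ (fun h0 => hn.ne'
        (zero_dvd_iff.1 (h0 ▸ x.2))), rfl⟩
    exact Finite.of_injective g fun x y h => Subtype.ext (congrArg (fun t => t.2.1) h)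
  have e : (Σ x : X, PointsOver f (k := K) x n) ≃ Σ x : S, PointsOver f (k := K) x.1 n :=
    (Equiv.sigmaSubtypeEquivOfSubset _ _ fun x φ => (pointsOver_dichotomy f x hn).2 ⟨φ⟩).symm
  have hfib : ∀ x : S, Finite (PointsOver f (k := K) x.1 n) := fun x =>
    Nat.finite_of_card_ne_zero (by
      rw [(pointsOver_dichotomy f x.1 hn).1 x.2]
      exact fun h0 => hn.ne' (zero_dvd_iff.1 (h0 ▸ x.2)))
  have := Fintype.ofFinite S
  rw [Nat.card_congr e, Nat.card_sigma,
    Finset.sum_congr rfl fun x _ => (pointsOver_dichotomy f x.1 hn).1 x.2, Zeta.nPts,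
    ← Finset.sum_fiberwise_of_maps_to (g := fun x : S => EGA4loc.residueDegree f x.1)
      (t := n.divisors) fun x _ => Nat.mem_divisors.2 ⟨x.2, hn.ne'⟩]
  refine Finset.sum_congr rfl fun e he => ?_
  rw [Finset.sum_congr rfl (g := fun _ => e) fun x hx => (Finset.mem_filter.1 hx).2,
    Finset.sum_const, smul_eq_mul, mul_comm]
  congr 1
  rw [Zeta.degCount, ← Fintype.card_subtype, ← Nat.card_eq_fintype_card]
  exact Nat.card_congr
    { toFun := fun x => ⟨x.1.1, isClosed_of_finite f _ (by
        rw [x.2]; exact (Nat.pos_of_mem_divisors he).ne'), x.2⟩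
      invFun := fun x => ⟨⟨x.1, by rw [x.2.2]; exact Nat.dvd_of_mem_divisors he⟩, x.2.2⟩
      left_inv := fun x => rfl
      right_inv := fun x => rfl }

/-- The points fixed by the `q^n`-power map form a finite set. -/
theorem finite_sigma_pointsOver [LocallyOfFiniteType f] [QuasiCompact f]
    {K : Type u} [Field K] [IsAlgClosed K] [Algebra k K] {n : ℕ} (hn : 0 < n) :
    Finite (Σ x : X, PointsOver f (k := K) x n) := by
  classical
  let S := {x : X // EGA4loc.residueDegree f x ∣ n}
  have hSfin : Finite S := by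
    let g : S → Σ e : n.divisors, {x : X // IsClosed ({x} : Set X) ∧
        EGA4loc.residueDegree f x = e.1} := fun x =>
      ⟨⟨_, Nat.mem_divisors.2 ⟨x.2, hn.ne'⟩⟩, x.1, isClosed_of_finite f _ (fun h0 => hn.ne'
        (zero_dvd_iff.1 (h0 ▸ x.2))), rfl⟩
    exact Finite.of_injective g fun x y h => Subtype.ext (congrArg (fun t => t.2.1) h)
  have hfib : ∀ x : S, Finite (PointsOver f (k := K) x.1 n) := fun x =>
    Nat.finite_of_card_ne_zero (by
      rw [(pointsOver_dichotomy f x.1 hn).1 x.2]
      exact fun h0 => hn.ne' (zero_dvd_iff.1 (h0 ▸ x.2)))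
  exact Finite.of_equiv _
    (Equiv.sigmaSubtypeEquivOfSubset _ _ fun x φ => (pointsOver_dichotomy f x hn).2 ⟨φ⟩)

/-- **Points with values in a finite extension.** -/
theorem pointCount_eq_nPts [LocallyOfFiniteType f] [QuasiCompact f]
    (k' : Type u) [Field k'] [Algebra k k'] [Finite k'] :
    SgaExt.pointCount f k' = Zeta.nPts f (Module.finrank k k') := by
  classical
  have : Module.Finite k k' := Module.Finite.of_finite
  have hn : 0 < Module.finrank k k' := Module.finrank_pos
  rw [← card_sigma_pointsOver f (K := AlgebraicClosure k) hn]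
  let ψ : k' →ₐ[k] AlgebraicClosure k := IsAlgClosed.lift
  have hψ : Function.Injective ψ := ψ.toRingHom.injective
  have hQ : Nat.card k ^ Module.finrank k k' = Nat.card k' :=
    Module.natCard_eq_pow_finrank.symm
  have := Fintype.ofFinite k'
  have hrange : ∀ c : AlgebraicClosure k, c ^ Nat.card k' = c → ∃ b, ψ b = c := by
    intro c hc
    by_contra hno
    have hP := FiniteField.X_pow_card_sub_X_ne_zero (AlgebraicClosure k)
      (Finite.one_lt_card (α := k'))
    have hsub : insert c (Finset.univ.image ψ) ⊆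
        (Polynomial.X ^ Nat.card k' - Polynomial.X : Polynomial (AlgebraicClosure k)).roots.toFinset := by
      intro d hd
      rw [Multiset.mem_toFinset, Polynomial.mem_roots hP, Polynomial.IsRoot.def]
      simp only [Polynomial.eval_sub, Polynomial.eval_pow, Polynomial.eval_X, sub_eq_zero]
      rcases Finset.mem_insert.1 hd with rfl | hd
      · exact hc
      · obtain ⟨b, -, rfl⟩ := Finset.mem_image.1 hd
        rw [← map_pow, Nat.card_eq_fintype_card, FiniteField.pow_card]
    have h1 := (Finset.card_le_card hsub).trans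
      ((Multiset.toFinset_card_le _).trans (Polynomial.card_roots' _))
    rw [FiniteField.X_pow_card_sub_X_natDegree_eq (AlgebraicClosure k)
      (Finite.one_lt_card (α := k')), Finset.card_insert_of_notMem (by simpa using hno),
      Finset.card_image_of_injective _ hψ, Finset.card_univ, Nat.card_eq_fintype_card] at h1
    omega
  let Emb : X → Type u := fun x => {φ : X.residueField x ⟶ CommRingCat.of k' //
    φ.hom.comp (VarDim.resHom f x) = algebraMap k k'}
  let e₁ : {g : Spec (CommRingCat.of k') ⟶ X //
      g ≫ f = Spec.map (CommRingCat.ofHom (algebraMap k k'))} ≃ Σ x, Emb x :=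
    (Equiv.subtypeEquiv (p := fun s : Σ x : X, X.residueField x ⟶ CommRingCat.of k' =>
        s.2.hom.comp (VarDim.resHom f s.1) = algebraMap k k')
      (q := fun g => g ≫ f = Spec.map (CommRingCat.ofHom (algebraMap k k')))
      (Scheme.SpecToEquivOfField k' X).symm fun s => by
        show _ ↔ (Spec.map s.2 ≫ X.fromSpecResidueField s.1) ≫ f = _
        rw [Category.assoc, fromSpecResidueField_comp, ← Spec.map_comp, Spec.map_inj]
        exact ⟨fun h => CommRingCat.hom_ext h, fun h => congrArg CommRingCat.Hom.hom h⟩).symm.trans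
    { toFun := fun s => ⟨s.1.1, s.1.2, s.2⟩
      invFun := fun t => ⟨⟨t.1, t.2.1⟩, t.2.2⟩
      left_inv := fun s => rfl
      right_inv := fun t => rfl }
  have e₂ : ∀ x, Emb x ≃ PointsOver f (k := AlgebraicClosure k) x (Module.finrank k k') := by
    intro x
    refine Equiv.ofBijective (fun φ => ⟨ψ.toRingHom.comp φ.1.hom, ?_, fun a => ?_⟩) ⟨?_, ?_⟩
    · rw [RingHom.comp_assoc, φ.2]
      exact ψ.comp_algebraMap
    · show ψ (φ.1.hom a) ^ _ = ψ (φ.1.hom a)
      rw [← map_pow, hQ, Nat.card_eq_fintype_card, FiniteField.pow_card]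
    · intro φ φ' h
      exact Subtype.ext (CommRingCat.hom_ext (RingHom.ext fun a => hψ
        (RingHom.congr_fun (congrArg Subtype.val h) a)))
    · rintro ⟨χ, h1, h2⟩
      choose g hg using fun a => hrange (χ a) (by rw [← hQ]; exact h2 a)
      let φ : X.residueField x →+* k' :=
        { toFun := g
          map_one' := hψ (by rw [hg, map_one, map_one])
          map_mul' := fun a b => hψ (by rw [hg, map_mul, map_mul, hg, hg])
          map_zero' := hψ (by rw [hg, map_zero, map_zero])
          map_add' := fun a b => hψ (by rw [hg, map_add, map_add, hg, hg]) }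
      refine ⟨⟨CommRingCat.ofHom φ, RingHom.ext fun c => hψ ?_⟩,
        Subtype.ext (RingHom.ext fun a => hg a)⟩
      show ψ (g (VarDim.resHom f x c)) = _
      rw [hg, AlgHom.commutes]
      exact RingHom.congr_fun h1 c
  rw [SgaExt.pointCount]
  exact Nat.card_congr (e₁.trans (Equiv.sigmaCongrRight e₂))

end

end Groth.Agent.ZetaLib
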