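import Groth.Agent.ZetaLib.EulerProduct
import Groth.Agent.WeilLib.PointCount
import Groth.Agent.WeilLib.ExpSeries
import Groth.Prelude.Def_SgaExt
import Mathlib.AlgebraicGeometry.Morphisms.Immersion
import Mathlib.RingTheory.PowerSeries.Inverse

/-!
# Products for the zeta function of a scheme over a finite field
-/

universe u

open CategoryTheory AlgebraicGeometry

namespace Groth.Agent.ZetaLib

open Groth.Agent.WeilLib

noncomputable section

/-- The structure morphism of a finite field over `ℤ`. -/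
def toSpecZ (k : Type u) [Field k] :
    Spec (CommRingCat.of k) ⟶ Spec (CommRingCat.of (ULift.{u} ℤ)) :=
  Spec.map (CommRingCat.ofHom ((Int.castRingHom k).comp ULift.ringEquiv.toRingHom))

instance locallyOfFiniteType_toSpecZ (k : Type u) [Field k] [Finite k] :
    LocallyOfFiniteType (toSpecZ k) := by
  rw [toSpecZ, HasRingHomProperty.Spec_iff (P := @LocallyOfFiniteType)]
  exact finiteType_of_finite _

variable {k : Type u} [Field k] [Finite k] {X : Scheme.{u}} (f : X ⟶ Spec (CommRingCat.of k))

theorem card_residueField_eq [LocallyOfFiniteType f] {x : X} (hx : IsClosed ({x} : Set X)) :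
    Nat.card (X.residueField x) = Nat.card k ^ EGA4loc.residueDegree f x := by
  letI := (VarDim.resHom f x).toAlgebra
  have : Finite (X.residueField x) := finite_residueField (f ≫ toSpecZ k) hx
  rw [residueDegree_eq_finrank f x]
  exact Module.natCard_eq_pow_finrank

theorem isClosed_of_finite_residueField [LocallyOfFiniteType f] (x : X)
    (hfin : Finite (X.residueField x)) : IsClosed ({x} : Set X) := by
  refine isClosed_of_finite f x ?_
  letI := (VarDim.resHom f x).toAlgebra
  rw [residueDegree_eq_finrank f x]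
  have : Module.Finite k (X.residueField x) := Module.Finite.of_finite
  exact Module.finrank_pos.ne'

/-- The closed points of a given degree, through cardinalities. -/
def degEquiv [LocallyOfFiniteType f] (e : ℕ) :
    { x : X // IsClosed ({x} : Set X) ∧ EGA4loc.residueDegree f x = e } ≃
      { x : X // IsClosed ({x} : Set X) ∧ Nat.card (X.residueField x) = Nat.card k ^ e } :=
  Equiv.subtypeEquivRight fun x => and_congr_right fun hx => by
    rw [card_residueField_eq f hx]
    exact ((Nat.pow_right_injective (Finite.one_lt_card (α := k))).eq_iff).symm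

instance finite_degPoints [LocallyOfFiniteType f] [QuasiCompact f] (e : ℕ) :
    Finite { x : X // IsClosed ({x} : Set X) ∧ EGA4loc.residueDegree f x = e } := by
  rcases isEmpty_or_nonempty
      { x : X // IsClosed ({x} : Set X) ∧ EGA4loc.residueDegree f x = e } with h | ⟨⟨x, hx, he⟩⟩
  · infer_instance
  · obtain ⟨n, A, j, hj, hft, -, hcov⟩ : ∃ (n : ℕ) (A : Fin n → CommRingCat.{u})
        (j : ∀ i, Spec (A i) ⟶ X), (∀ i, IsOpenImmersion (j i)) ∧
        (∀ i, Algebra.FiniteType ℤ (A i)) ∧ True ∧ ∀ x : X, ∃ i, x ∈ Set.range (j i) := by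
      obtain ⟨n, A, j, h1, h2, h3, h4⟩ := exists_affine_cover (f ≫ toSpecZ k)
      exact ⟨n, A, j, h1, h2, trivial, h4⟩
    have := finite_residueField (f ≫ toSpecZ k) hx
    have hfin : ∀ i, Finite ((A i : Type u) →+* X.residueField x) := fun i => finite_ringHom _
    have := (card_points_le j hcov (X.residueField x) hfin).1
    have := (card_closedPoints_le (X := X) (n := Nat.card k ^ e) (X.residueField x)
      (by rw [card_residueField_eq f hx, he])).1
    exact Finite.of_equiv _ (degEquiv f e).symm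

/-- A preimmersion induces bijections on residue fields. -/
theorem card_residueField_of_preimmersion {Y : Scheme.{u}} (g : Y ⟶ X) [IsPreimmersion g] (y : Y) :
    Nat.card (Y.residueField y) = Nat.card (X.residueField (g y)) := by
  refine (Nat.card_congr (Equiv.ofBijective (g.residueFieldMap y).hom
    ⟨(g.residueFieldMap y).hom.injective, fun b => ?_⟩)).symm
  obtain ⟨c, rfl⟩ := Y.residue_surjective y b
  obtain ⟨d, rfl⟩ := g.stalkMap_surjective y c
  exact ⟨X.residue (g y) d,
    congrArg (fun m => m.hom d) (Scheme.residue_residueFieldMap g y)⟩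

theorem degCount_eq_sum [LocallyOfFiniteType f] [QuasiCompact f] {ι : Type*} [Fintype ι]
    (Y : ι → Scheme.{u}) (g : ∀ i, Y i ⟶ X) [∀ i, IsPreimmersion (g i)]
    [∀ i, LocallyOfFiniteType (g i)]
    (hpart : ∀ x : X, IsClosed ({x} : Set X) → ∃! i, x ∈ Set.range (g i).base) (e : ℕ) :
    Zeta.degCount f e = ∑ i, Zeta.degCount (g i ≫ f) e := by
  classical
  have hclosed : ∀ i (y : Y i), IsClosed ({y} : Set (Y i)) → IsClosed ({g i y} : Set X) :=
    fun i y hy => isClosed_of_finite_residueField f _ (by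
      have := finite_residueField ((g i ≫ f) ≫ toSpecZ k) hy
      exact Nat.finite_of_card_ne_zero
        (by rw [← card_residueField_of_preimmersion (g i) y]; exact Nat.card_pos.ne'))
  let F : (Σ i, { y : Y i // IsClosed ({y} : Set (Y i)) ∧
        Nat.card ((Y i).residueField y) = Nat.card k ^ e }) →
      { x : X // IsClosed ({x} : Set X) ∧ Nat.card (X.residueField x) = Nat.card k ^ e } :=
    fun t => ⟨g t.1 t.2.1, hclosed _ _ t.2.2.1, by
      rw [← card_residueField_of_preimmersion (g t.1) t.2.1]; exact t.2.2.2⟩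
  have hF : Function.Bijective F := by
    constructor
    · rintro ⟨i, y, hy⟩ ⟨j, z, hz⟩ h
      have h' : g i y = g j z := congrArg Subtype.val h
      obtain rfl : i = j := (hpart _ (hclosed i y hy.1)).unique ⟨y, rfl⟩ ⟨z, h'.symm⟩
      obtain rfl : y = z := (g i).isEmbedding.injective h'
      rfl
    · rintro ⟨x, hx, hcard⟩
      obtain ⟨i, ⟨y, rfl⟩, -⟩ := hpart x hx
      have hy : IsClosed ({y} : Set (Y i)) := by
        have h := hx.preimage (g i).continuous
        rwa [← Set.image_singleton, (g i).isEmbedding.injective.preimage_image] at h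
      exact ⟨⟨i, y, hy, by rw [card_residueField_of_preimmersion (g i) y]; exact hcard⟩, rfl⟩
  have : Finite { x : X // IsClosed ({x} : Set X) ∧ Nat.card (X.residueField x) = Nat.card k ^ e } :=
    Finite.of_equiv _ (degEquiv f e)
  have hfinσ := Finite.of_injective F hF.1
  have : ∀ i, Finite { y : Y i // IsClosed ({y} : Set (Y i)) ∧
      Nat.card ((Y i).residueField y) = Nat.card k ^ e } := fun i =>
    Finite.of_injective (fun y => (⟨i, y⟩ : Σ i, { y : Y i // IsClosed ({y} : Set (Y i)) ∧
      Nat.card ((Y i).residueField y) = Nat.card k ^ e })) fun _ _ h => eq_of_heq (Sigma.mk.inj h).2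
  simp only [Zeta.degCount]
  rw [Nat.card_congr (degEquiv f e), ← Nat.card_congr (Equiv.ofBijective F hF), Nat.card_sigma]
  exact Finset.sum_congr rfl fun i _ => (Nat.card_congr (degEquiv (g i ≫ f) e)).symm

omit [Finite k] in
theorem hasLogDeriv_zetaFun {X : Scheme.{u}} (f : X ⟶ Spec (CommRingCat.of k)) :
    HasLogDeriv (Zeta.zetaFun f) (PowerSeries.mk fun m => (Zeta.nPts f (m + 1) : ℚ)) := by
  have h := hasLogDeriv_exp_subst (L := Zeta.logZeta f) (constantCoeff_mk_div _)
  rw [Zeta.logZeta, derivative_mk_div] at h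
  exact h

omit [Finite k] in
theorem constantCoeff_zetaFun {X : Scheme.{u}} (f : X ⟶ Spec (CommRingCat.of k)) :
    PowerSeries.constantCoeff (Zeta.zetaFun f) = 1 :=
  constantCoeff_exp_subst (constantCoeff_mk_div _)

/-- **The zeta function is multiplicative for decompositions.** -/
theorem zetaFun_eq_prod [LocallyOfFiniteType f] [QuasiCompact f] {ι : Type*} [Fintype ι]
    (Y : ι → Scheme.{u}) (g : ∀ i, Y i ⟶ X) [∀ i, IsPreimmersion (g i)]
    [∀ i, LocallyOfFiniteType (g i)]
    (hpart : ∀ x : X, IsClosed ({x} : Set X) → ∃! i, x ∈ Set.range (g i).base) :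
    Zeta.zetaFun f = ∏ i, Zeta.zetaFun (g i ≫ f) := by
  have hN : ∀ m, Zeta.nPts f m = ∑ i, Zeta.nPts (g i ≫ f) m := fun m => by
    simp only [Zeta.nPts, degCount_eq_sum f Y g hpart, Finset.mul_sum]
    exact Finset.sum_comm
  have hD : (∑ i, PowerSeries.mk fun m => (Zeta.nPts (g i ≫ f) (m + 1) : ℚ)) =
      PowerSeries.mk fun m => (Zeta.nPts f (m + 1) : ℚ) := by
    ext m
    simp [hN, map_sum]
  have h := HasLogDeriv.prod Finset.univ fun i (_ : i ∈ Finset.univ) => hasLogDeriv_zetaFun (g i ≫ f)
  rw [hD] at h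
  refine (hasLogDeriv_zetaFun f).unique h ?_
  rw [constantCoeff_zetaFun, map_prod, Finset.prod_eq_one fun i _ => constantCoeff_zetaFun _]

section Euler

/-- The logarithmic derivative of `1 - X ^ r`. -/
def eulerLog (r : ℕ) : PowerSeries ℚ :=
  PowerSeries.mk fun m => if r ∣ m + 1 then -(r : ℚ) else 0

theorem hasLogDeriv_one_sub_X_pow {r : ℕ} (hr : 0 < r) :
    HasLogDeriv (1 - PowerSeries.X ^ r) (eulerLog r) := by
  rw [HasLogDeriv, map_sub, Derivation.map_one_eq_zero, zero_sub, PowerSeries.derivative_pow,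
    PowerSeries.derivative_X, mul_one]
  ext m
  rw [sub_mul, one_mul, map_sub, map_neg, PowerSeries.coeff_X_pow_mul']
  rw [show (r : PowerSeries ℚ) = PowerSeries.C (r : ℚ) from (map_natCast _ r).symm,
    PowerSeries.coeff_C_mul, PowerSeries.coeff_X_pow]
  simp only [eulerLog, PowerSeries.coeff_mk]
  rcases le_or_gt r m with hle | hgt
  · rw [if_pos hle, if_neg (by omega : ¬ m = r - 1), mul_zero, neg_zero]
    have h1 : r ∣ m - r + 1 ↔ r ∣ m + 1 := by
      rw [← Nat.dvd_add_self_right (m := r) (n := m - r + 1), show m - r + 1 + r = m + 1 by omega]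
    simp only [h1, sub_self]
  · rw [if_neg (by omega : ¬ r ≤ m), sub_zero]
    by_cases hm : m = r - 1
    · rw [if_pos hm, if_pos (by rw [hm, Nat.sub_add_cancel hr]), mul_one]
    · rw [if_neg hm, if_neg (fun h => hm (by have := Nat.le_of_dvd (Nat.succ_pos m) h; omega)),
        mul_zero, neg_zero]

theorem coeff_eq_zero_of_hasLogDeriv {F D : PowerSeries ℚ} (h : HasLogDeriv F D) {n : ℕ}
    (hD : ∀ m < n, PowerSeries.coeff m D = 0) {j : ℕ} (hj : j < n) :
    PowerSeries.coeff (j + 1) F = 0 := by
  have h1 := congrArg (PowerSeries.coeff j) h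
  rw [PowerSeries.coeff_derivative, PowerSeries.coeff_mul] at h1
  rw [Finset.sum_eq_zero fun t ht => by
    rw [hD t.2 (lt_of_le_of_lt (by have := Finset.mem_antidiagonal.1 ht; omega) hj), mul_zero],
    mul_eq_zero] at h1
  exact h1.resolve_right (by positivity)

variable [LocallyOfFiniteType f] [QuasiCompact f]

omit [Finite k] [LocallyOfFiniteType f] [QuasiCompact f] in
theorem trunc_zetaFun_mul_prod (n : ℕ) :
    PowerSeries.trunc (n + 1)
      (Zeta.zetaFun f * ∏ r ∈ Finset.Icc 1 n, (1 - PowerSeries.X ^ r) ^ Zeta.degCount f r) = 1 := by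
  set Q := ∏ r ∈ Finset.Icc 1 n, (1 - PowerSeries.X ^ r : PowerSeries ℚ) ^ Zeta.degCount f r with hQ
  have hQd : HasLogDeriv Q (∑ r ∈ Finset.Icc 1 n, Zeta.degCount f r • eulerLog r) := by
    refine HasLogDeriv.prod _ fun r hr => ?_
    have h := HasLogDeriv.prod (Finset.range (Zeta.degCount f r)) fun i (_ : i ∈ Finset.range _) =>
      hasLogDeriv_one_sub_X_pow (r := r) (Finset.mem_Icc.1 hr).1
    rwa [Finset.prod_const, Finset.sum_const, Finset.card_range] at h
  have hF := (hasLogDeriv_zetaFun f).mul hQd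
  have hc : PowerSeries.constantCoeff Q = 1 := by
    rw [hQ, map_prod]
    refine Finset.prod_eq_one fun r hr => ?_
    rw [map_pow, map_sub, map_one, map_pow, PowerSeries.constantCoeff_X,
      zero_pow (by have := (Finset.mem_Icc.1 hr).1; omega), sub_zero, one_pow]
  have hD : ∀ m < n, PowerSeries.coeff m ((PowerSeries.mk fun m => (Zeta.nPts f (m + 1) : ℚ)) +
      ∑ r ∈ Finset.Icc 1 n, Zeta.degCount f r • eulerLog r) = 0 := by
    intro m hm
    have hsub : (Finset.Icc 1 n).filter (fun r => r ∣ m + 1) = (m + 1).divisors := by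
      ext r
      simp only [Finset.mem_filter, Finset.mem_Icc, Nat.mem_divisors]
      exact ⟨fun h => ⟨h.2, by omega⟩, fun h => ⟨⟨Nat.pos_of_dvd_of_pos h.1 (by omega),
        (Nat.le_of_dvd (by omega) h.1).trans hm⟩, h.1⟩⟩
    rw [map_add, PowerSeries.coeff_mk, map_sum]
    simp only [map_nsmul]
    simp only [eulerLog, PowerSeries.coeff_mk, smul_ite, smul_zero]
    rw [← Finset.sum_filter, hsub, Zeta.nPts, Nat.cast_sum, ← Finset.sum_add_distrib]
    exact Finset.sum_eq_zero fun e _ => by rw [nsmul_eq_mul]; push_cast; ring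
  ext j
  rw [PowerSeries.coeff_trunc, Polynomial.coeff_one]
  rcases j with - | j
  · rw [if_pos (Nat.succ_pos n), if_pos rfl, PowerSeries.coeff_zero_eq_constantCoeff_apply, map_mul,
      constantCoeff_zetaFun, hc, mul_one]
  · rw [if_neg (Nat.succ_ne_zero j)]
    split_ifs with hj
    · exact coeff_eq_zero_of_hasLogDeriv hF hD (Nat.succ_lt_succ_iff.1 hj)
    · rfl

omit [Finite k] [LocallyOfFiniteType f] [QuasiCompact f] in
theorem exists_int_coeff_zetaFun (n : ℕ) :
    ∃ z : ℤ, PowerSeries.coeff n (Zeta.zetaFun f) = (z : ℚ) := by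
  let Qz : PowerSeries ℤ := ∏ r ∈ Finset.Icc 1 n, (1 - PowerSeries.X ^ r) ^ Zeta.degCount f r
  have hc : PowerSeries.constantCoeff Qz = ((1 : ℤˣ) : ℤ) := by
    rw [map_prod, Units.val_one]
    refine Finset.prod_eq_one fun r hr => ?_
    rw [map_pow, map_sub, map_one, map_pow, PowerSeries.constantCoeff_X,
      zero_pow (by have := (Finset.mem_Icc.1 hr).1; omega), sub_zero, one_pow]
  let R := PowerSeries.invOfUnit Qz 1
  have hQR : Qz * R = 1 := PowerSeries.mul_invOfUnit Qz 1 hc
  refine ⟨PowerSeries.coeff n R, ?_⟩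
  set φ := PowerSeries.map (Int.castRingHom ℚ)
  have hφ : φ Qz = ∏ r ∈ Finset.Icc 1 n, (1 - PowerSeries.X ^ r) ^ Zeta.degCount f r := by
    simp [Qz, φ]
  have h1 : Zeta.zetaFun f = (Zeta.zetaFun f * φ Qz) * φ R := by
    rw [mul_assoc, ← map_mul, hQR, map_one, mul_one]
  have h2 := trunc_zetaFun_mul_prod f n
  rw [← hφ] at h2
  rw [h1, PowerSeries.coeff_mul, Finset.sum_eq_single (0, n)]
  · have := congrArg (Polynomial.coeff · 0) h2
    rw [PowerSeries.coeff_trunc, Polynomial.coeff_one, if_pos (Nat.succ_pos n), if_pos rfl] at this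
    rw [this, one_mul]
    simp [φ]
  · intro t ht htne
    have hle := Finset.mem_antidiagonal.1 ht
    have := congrArg (Polynomial.coeff · t.1) h2
    rw [PowerSeries.coeff_trunc, Polynomial.coeff_one, if_pos (by omega : t.1 < n + 1),
      if_neg (fun h => htne (Prod.ext h (show t.2 = n by omega)))] at this
    rw [this, zero_mul]
  · intro h
    simp at h

omit [Finite k] [LocallyOfFiniteType f] [QuasiCompact f] in
/-- A zeta function with polynomial point count. -/
theorem zetaFun_mul_prod_of_count (q : ℕ) (P : Polynomial ℤ)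
    (hP : ∀ m : ℕ, 1 ≤ m → (Zeta.nPts f m : ℤ) = P.eval ((q : ℤ) ^ m)) :
    Zeta.zetaFun f * ∏ i ∈ Finset.range (P.natDegree + 1),
        (1 - PowerSeries.C ((q : ℚ) ^ i) * PowerSeries.X) ^ (P.coeff i).toNat =
      ∏ i ∈ Finset.range (P.natDegree + 1),
        (1 - PowerSeries.C ((q : ℚ) ^ i) * PowerSeries.X) ^ (-P.coeff i).toNat := by
  have hlin : ∀ c : ℚ, HasLogDeriv (1 - PowerSeries.C c * PowerSeries.X)
      (PowerSeries.mk fun m => -c ^ (m + 1)) := fun c => by
    rw [HasLogDeriv, map_sub, Derivation.map_one_eq_zero, zero_sub, Derivation.leibniz,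
      PowerSeries.derivative_X, PowerSeries.derivative_C, smul_zero, add_zero, smul_eq_mul, mul_one]
    ext m
    rw [sub_mul, one_mul, map_sub, map_neg, PowerSeries.coeff_C, mul_assoc,
      PowerSeries.coeff_C_mul]
    rcases m with - | m
    · rw [PowerSeries.coeff_zero_X_mul, PowerSeries.coeff_mk]
      simp
    · rw [PowerSeries.coeff_succ_X_mul, PowerSeries.coeff_mk,
        PowerSeries.coeff_mk, if_neg (Nat.succ_ne_zero m)]
      ring
  have hpow : ∀ (c : ℕ → ℚ) (a : ℕ → ℕ), HasLogDeriv
      (∏ i ∈ Finset.range (P.natDegree + 1), (1 - PowerSeries.C (c i) * PowerSeries.X) ^ a i)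
      (∑ i ∈ Finset.range (P.natDegree + 1), a i • PowerSeries.mk fun m => -c i ^ (m + 1)) :=
    fun c a => HasLogDeriv.prod _ fun i _ => by
      have h := HasLogDeriv.prod (Finset.range (a i)) fun j (_ : j ∈ Finset.range (a i)) => hlin (c i)
      rwa [Finset.prod_const, Finset.sum_const, Finset.card_range] at h
  have h1 := (hasLogDeriv_zetaFun f).mul (hpow (fun i => (q : ℚ) ^ i) fun i => (P.coeff i).toNat)
  refine (HasLogDeriv.unique h1 ?_ ?_)
  · convert hpow (fun i => (q : ℚ) ^ i) fun i => (-P.coeff i).toNat using 1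
    ext m
    simp only [map_add, map_sum, map_nsmul, PowerSeries.coeff_mk]
    have hN : ((Zeta.nPts f (m + 1) : ℤ) : ℚ) =
        ((P.eval ((q : ℤ) ^ (m + 1)) : ℤ) : ℚ) := by rw [hP (m + 1) (Nat.succ_pos m)]
    rw [Int.cast_natCast, Polynomial.eval_eq_sum_range, Int.cast_sum] at hN
    rw [hN, ← Finset.sum_add_distrib]
    refine Finset.sum_congr rfl fun i _ => ?_
    have h3 : ((P.coeff i : ℤ) : ℚ) = ((P.coeff i).toNat : ℚ) - ((-P.coeff i).toNat : ℚ) := by
      exact_mod_cast (Int.toNat_sub_toNat_neg (P.coeff i)).symm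
    rw [Int.cast_mul, h3, nsmul_eq_mul, nsmul_eq_mul, Int.cast_pow, Int.cast_pow, Int.cast_natCast,
      pow_right_comm]
    ring
  · simp [map_prod, constantCoeff_zetaFun]

end Euler

end

end Groth.Agent.ZetaLib
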