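import Groth.Agent.VarDim.Basic
import Mathlib.RingTheory.NoetherNormalization
import Mathlib.RingTheory.Jacobson.Ring
import Mathlib.RingTheory.Localization.BaseChange
import Mathlib.RingTheory.FiniteType
import Mathlib.RingTheory.FiniteStability
import Mathlib.RingTheory.Ideal.Int
import Mathlib.RingTheory.PrincipalIdealDomain
import Mathlib.Analysis.SpecialFunctions.Pow.Real
import Mathlib.Data.ZMod.Basic
import Mathlib.Algebra.Field.ZMod

/-!
# Counting homomorphisms from a finitely generated ring to finite fields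
-/

universe u v

open Polynomial
open scoped TensorProduct

namespace Groth.Agent.ZetaLib

noncomputable section

variable {A : Type u} [CommRing A]

theorem isJacobsonRing_int : IsJacobsonRing ℤ := by
  rw [isJacobsonRing_iff_prime_eq]
  intro P hP
  rcases eq_or_ne P ⊥ with rfl | hne
  · refine le_antisymm ?_ Ideal.le_jacobson
    intro x hx
    by_contra hx0
    have hx0' : x ≠ 0 := hx0
    obtain ⟨p, hp, hpp⟩ := Nat.exists_infinite_primes (x.natAbs + 1)
    haveI := Fact.mk hpp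
    have hmax : (Ideal.span {(p : ℤ)}).IsMaximal := Int.ideal_span_isMaximal_of_prime p
    have hm : x ∈ Ideal.span {(p : ℤ)} := (Ideal.mem_sInf.1 hx) ⟨bot_le, hmax⟩
    rw [Ideal.mem_span_singleton, Int.natCast_dvd] at hm
    have := Nat.le_of_dvd (Int.natAbs_pos.2 hx0') hm
    omega
  · haveI := IsPrime.to_maximal_ideal hne
    exact Ideal.jacobson_eq_self_of_isMaximal

theorem ringHom_ext_of_adjoin {R : Type v} [Ring R] {s : Set A} (hs : Algebra.adjoin ℤ s = ⊤)
    {φ ψ : A →+* R} (h : ∀ a ∈ s, φ a = ψ a) : φ = ψ := by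
  have := AlgHom.ext_of_adjoin_eq_top (φ₁ := φ.toIntAlgHom) (φ₂ := ψ.toIntAlgHom) hs h
  exact RingHom.ext fun a => AlgHom.congr_fun this a

/-- Homomorphisms to a finite field with prescribed polynomial relations. -/
theorem card_hom_le {F : Type v} [Field F] [Finite F] (gens : Finset A)
    (hgen : Algebra.adjoin ℤ (gens : Set A) = ⊤) {s : ℕ} (a : Fin s → A)
    (P : gens → Polynomial (MvPolynomial (Fin s) ℤ)) (S : Set (A →+* F))
    (hroot : ∀ φ ∈ S, ∀ j : gens,
      Polynomial.eval₂ (φ.comp (MvPolynomial.aeval a).toRingHom) (φ j) (P j) = 0)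
    (hlead : ∀ φ ∈ S, ∀ j : gens, (P j).map (φ.comp (MvPolynomial.aeval a).toRingHom) ≠ 0) :
    Finite S ∧ Nat.card S ≤ (∏ j : gens, (P j).natDegree) * Nat.card F ^ s := by
  classical
  have := Fintype.ofFinite F
  let ev : (Fin s → F) → MvPolynomial (Fin s) ℤ →+* F := fun v =>
    MvPolynomial.eval₂Hom (Int.castRingHom F) v
  have hev : ∀ φ : A →+* F, φ.comp (MvPolynomial.aeval a).toRingHom = ev (fun i => φ (a i)) :=
    fun φ => MvPolynomial.ringHom_ext' (RingHom.ext_int _ _) fun i => by simp [ev]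
  let T : (Fin s → F) → Type (max u v) := fun v =>
    (j : gens) → {c : F // c ∈ ((P j).map (ev v)).roots.toFinset}
  let f : S → Σ v : Fin s → F, T v := fun φ =>
    ⟨fun i => φ.1 (a i), fun j => ⟨φ.1 j, Multiset.mem_toFinset.2
      ((Polynomial.mem_roots (by rw [← hev]; exact hlead φ.1 φ.2 j)).2 (by
        rw [← hev, Polynomial.IsRoot.def, Polynomial.eval_map]
        exact hroot φ.1 φ.2 j))⟩⟩
  have hf : Function.Injective f := by
    intro φ ψ h
    refine Subtype.ext (ringHom_ext_of_adjoin hgen fun x hx => ?_)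
    have := congrArg (fun t : Σ v : Fin s → F, T v => (t.2 ⟨x, hx⟩).1) h
    exact this
  refine ⟨Finite.of_injective f hf, (Nat.card_le_card_of_injective f hf).trans ?_⟩
  rw [Nat.card_sigma]
  calc ∑ v : Fin s → F, Nat.card (T v)
      ≤ ∑ _v : Fin s → F, ∏ j : gens, (P j).natDegree := Finset.sum_le_sum fun v _ => by
        rw [Nat.card_pi]
        refine Finset.prod_le_prod' fun j _ => ?_
        rw [Nat.card_eq_fintype_card, Fintype.card_coe]
        exact (Multiset.toFinset_card_le _).trans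
          ((Polynomial.card_roots' _).trans Polynomial.natDegree_map_le)
    _ = (∏ j : gens, (P j).natDegree) * Nat.card F ^ s := by
        rw [Finset.sum_const, Finset.card_univ, smul_eq_mul, Fintype.card_fun, Fintype.card_fin,
          Nat.card_eq_fintype_card, mul_comm]

/-- Homomorphisms from a finitely generated ring to a finite ring form a finite set. -/
theorem finite_ringHom [Algebra.FiniteType ℤ A] (F : Type v) [Ring F] [Finite F] :
    Finite (A →+* F) := by
  obtain ⟨gens, hgen⟩ := Algebra.FiniteType.out (R := ℤ) (A := A)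
  exact Finite.of_injective (fun φ (a : gens) => φ a) fun φ ψ h =>
    ringHom_ext_of_adjoin hgen fun a ha => congrFun h ⟨a, ha⟩

variable (A) in
/-- Every element of `K` is a fraction of an integer by a natural number invertible in `K`. -/
def HasIntFractions (K : Type v) [Field K] : Prop :=
  ∀ x : K, ∃ (n : ℕ) (z : ℤ), (n : K) ≠ 0 ∧ (n : K) * x = z

theorem hasIntFractions_rat : HasIntFractions ℚ := fun x =>
  ⟨x.den, x.num, Nat.cast_ne_zero.2 x.den_nz, by rw [mul_comm, Rat.mul_den_eq_num]⟩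

theorem hasIntFractions_zmod (p : ℕ) [Fact p.Prime] : HasIntFractions (ZMod p) := fun x =>
  ⟨1, x.val, by simp, by simp [ZMod.natCast_val]⟩

variable {K : Type v} [Field K] (hK : HasIntFractions K)

include hK in
theorem exists_eq_tmul (e : K ⊗[ℤ] A) :
    ∃ (n : ℕ) (a : A), (n : K) ≠ 0 ∧ (n : K ⊗[ℤ] A) * e = 1 ⊗ₜ[ℤ] a := by
  induction e using TensorProduct.induction_on with
  | zero => exact ⟨1, 0, by simp, by simp⟩
  | tmul x a =>
    obtain ⟨n, z, hn, hz⟩ := hK x
    refine ⟨n, z • a, hn, ?_⟩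
    rw [← map_natCast (Algebra.TensorProduct.includeLeft (S := ℤ) : K →ₐ[ℤ] K ⊗[ℤ] A),
      Algebra.TensorProduct.includeLeft_apply, Algebra.TensorProduct.tmul_mul_tmul, one_mul, hz,
      TensorProduct.tmul_smul, TensorProduct.smul_tmul', zsmul_one]
  | add e₁ e₂ h₁ h₂ =>
    obtain ⟨n₁, a₁, hn₁, h₁⟩ := h₁
    obtain ⟨n₂, a₂, hn₂, h₂⟩ := h₂
    refine ⟨n₁ * n₂, (n₂ : ℤ) • a₁ + (n₁ : ℤ) • a₂, by rw [Nat.cast_mul]; exact mul_ne_zero hn₁ hn₂, ?_⟩
    rw [TensorProduct.tmul_add, TensorProduct.tmul_smul, TensorProduct.tmul_smul, ← h₁, ← h₂,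
      zsmul_eq_mul, zsmul_eq_mul]
    push_cast
    ring

include hK in
theorem exists_map_eq {s : ℕ} (R : MvPolynomial (Fin s) K) :
    ∃ (n : ℕ) (P : MvPolynomial (Fin s) ℤ), (n : K) ≠ 0 ∧
      MvPolynomial.map (Int.castRingHom K) P = (n : MvPolynomial (Fin s) K) * R := by
  induction R using MvPolynomial.induction_on' with
  | monomial e x =>
    obtain ⟨n, z, hn, hz⟩ := hK x
    refine ⟨n, MvPolynomial.monomial e z, hn, ?_⟩
    rw [MvPolynomial.map_monomial, ← map_natCast (MvPolynomial.C : K →+* MvPolynomial (Fin s) K),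
      MvPolynomial.C_mul_monomial, hz]
    rfl
  | add R₁ R₂ h₁ h₂ =>
    obtain ⟨n₁, P₁, hn₁, h₁⟩ := h₁
    obtain ⟨n₂, P₂, hn₂, h₂⟩ := h₂
    refine ⟨n₁ * n₂, (n₂ : MvPolynomial (Fin s) ℤ) * P₁ + (n₁ : MvPolynomial (Fin s) ℤ) * P₂,
      by rw [Nat.cast_mul]; exact mul_ne_zero hn₁ hn₂, ?_⟩
    rw [map_add, map_mul, map_mul, map_natCast, map_natCast, h₁, h₂]
    push_cast
    ring

include hK in
theorem exists_map_eq_poly {s : ℕ} (R : Polynomial (MvPolynomial (Fin s) K)) :
    ∃ (n : ℕ) (P : Polynomial (MvPolynomial (Fin s) ℤ)), (n : K) ≠ 0 ∧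
      P.map (MvPolynomial.map (Int.castRingHom K)) =
        (n : Polynomial (MvPolynomial (Fin s) K)) * R := by
  induction R using Polynomial.induction_on' with
  | monomial e x =>
    obtain ⟨n, z, hn, hz⟩ := exists_map_eq hK x
    refine ⟨n, Polynomial.monomial e z, hn, ?_⟩
    rw [Polynomial.map_monomial, hz,
      ← map_natCast (Polynomial.C : MvPolynomial (Fin s) K →+* Polynomial (MvPolynomial (Fin s) K)),
      Polynomial.C_mul_monomial]
  | add R₁ R₂ h₁ h₂ =>
    obtain ⟨n₁, P₁, hn₁, h₁⟩ := h₁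
    obtain ⟨n₂, P₂, hn₂, h₂⟩ := h₂
    refine ⟨n₁ * n₂, (n₂ : Polynomial (MvPolynomial (Fin s) ℤ)) * P₁ +
        (n₁ : Polynomial (MvPolynomial (Fin s) ℤ)) * P₂,
      by rw [Nat.cast_mul]; exact mul_ne_zero hn₁ hn₂, ?_⟩
    rw [Polynomial.map_add, Polynomial.map_mul, Polynomial.map_mul, Polynomial.map_natCast,
      Polynomial.map_natCast, h₁, h₂]
    push_cast
    ring

include hK in
/-- Relations from Noether normalisation of `K ⊗ A`. -/
theorem exists_relations (gens : Finset A) (hgen : Algebra.adjoin ℤ (gens : Set A) = ⊤)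
    [Nontrivial (K ⊗[ℤ] A)] :
    ∃ (s : ℕ) (a : Fin s → A) (M : gens → ℕ) (D : gens → ℕ)
      (P : gens → Polynomial (MvPolynomial (Fin s) ℤ)),
      (s : WithBot ℕ∞) = ringKrullDim (K ⊗[ℤ] A) ∧
      (∀ j, (M j : K) ≠ 0 ∧ (P j).coeff (D j) = (M j : MvPolynomial (Fin s) ℤ)) ∧
      ∀ j : gens, (1 : K) ⊗ₜ[ℤ] Polynomial.eval₂ (MvPolynomial.aeval a).toRingHom (j : A) (P j) =
        (0 : K ⊗[ℤ] A) := by
  classical
  have : Algebra.FiniteType ℤ A := ⟨⟨gens, hgen⟩⟩
  obtain ⟨s, g, hinj, hint⟩ := exists_integral_inj_algHom_of_fg K (K ⊗[ℤ] A)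
  have hdim : ringKrullDim (K ⊗[ℤ] A) = s := by
    letI : Algebra (MvPolynomial (Fin s) K) (K ⊗[ℤ] A) := g.toRingHom.toAlgebra
    have : FaithfulSMul (MvPolynomial (Fin s) K) (K ⊗[ℤ] A) :=
      (faithfulSMul_iff_algebraMap_injective _ _).2 hinj
    have : Algebra.IsIntegral (MvPolynomial (Fin s) K) (K ⊗[ℤ] A) := ⟨hint⟩
    rw [VarDim.ringKrullDim_eq_of_isIntegral (R := MvPolynomial (Fin s) K) (S := K ⊗[ℤ] A),
      MvPolynomial.ringKrullDim_of_isNoetherianRing, ringKrullDim_eq_zero_of_field, zero_add,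
      Nat.card_fin]
  choose n a hn ha using fun i : Fin s => exists_eq_tmul hK (g (MvPolynomial.X i))
  let scale : MvPolynomial (Fin s) K →ₐ[K] MvPolynomial (Fin s) K :=
    MvPolynomial.aeval fun i => MvPolynomial.C (n i : K) * MvPolynomial.X i
  let unscale : MvPolynomial (Fin s) K →ₐ[K] MvPolynomial (Fin s) K :=
    MvPolynomial.aeval fun i => MvPolynomial.C ((n i : K)⁻¹) * MvPolynomial.X i
  have hsurj : Function.Surjective scale := fun P => ⟨unscale P, by
    show (scale.comp unscale) P = AlgHom.id K _ P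
    congr 1
    refine MvPolynomial.algHom_ext fun i => ?_
    simp only [scale, unscale, AlgHom.comp_apply, MvPolynomial.aeval_X, map_mul,
      MvPolynomial.aeval_C, MvPolynomial.algebraMap_eq, AlgHom.id_apply]
    rw [← mul_assoc, ← map_mul, inv_mul_cancel₀ (hn i), map_one, one_mul]⟩
  set g' := g.comp scale with hg'
  have hint' : g'.toRingHom.IsIntegral :=
    RingHom.IsIntegral.trans scale.toRingHom g.toRingHom
      (RingHom.isIntegral_of_surjective _ hsurj) hint
  have hg'X : ∀ i, g' (MvPolynomial.X i) = 1 ⊗ₜ[ℤ] a i := fun i => by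
    rw [← ha i]
    simp only [g', scale, AlgHom.comp_apply, MvPolynomial.aeval_X, map_mul]
    congr 1
    exact (g.commutes (n i : K)).trans (map_natCast _ _)
  have hcomp : g'.toRingHom.comp (MvPolynomial.map (Int.castRingHom K)) =
      (Algebra.TensorProduct.includeRight : A →ₐ[ℤ] K ⊗[ℤ] A).toRingHom.comp
        (MvPolynomial.aeval a).toRingHom := by
    refine MvPolynomial.ringHom_ext' (RingHom.ext_int _ _) fun i => ?_
    simp only [RingHom.comp_apply, AlgHom.toRingHom_eq_coe, RingHom.coe_coe, MvPolynomial.map_X,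
      MvPolynomial.aeval_X, Algebra.TensorProduct.includeRight_apply]
    exact hg'X i
  choose R hR using fun j : gens => hint' ((1 : K) ⊗ₜ[ℤ] (j : A))
  choose m P hm hP using fun j => exists_map_eq_poly hK (R j)
  let P' : gens → Polynomial (MvPolynomial (Fin s) ℤ) := fun j =>
    (P j).erase (R j).natDegree + Polynomial.monomial (R j).natDegree (m j : MvPolynomial (Fin s) ℤ)
  refine ⟨s, a, m, fun j => (R j).natDegree, P', hdim.symm, fun j => ⟨hm j, by simp [P']⟩,
    fun j => ?_⟩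
  have hmap : (P' j).map (MvPolynomial.map (Int.castRingHom K)) =
      (P j).map (MvPolynomial.map (Int.castRingHom K)) := by
    ext e : 1
    simp only [P', Polynomial.coeff_map, Polynomial.coeff_add, Polynomial.coeff_erase,
      Polynomial.coeff_monomial]
    split_ifs with h1 h2 h2
    · subst h1
      rw [zero_add, map_natCast]
      have := congrArg (fun Q => Polynomial.coeff Q (R j).natDegree) (hP j)
      simp only [Polynomial.coeff_map, Polynomial.coeff_natCast_mul] at this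
      rw [this, (hR j).1.coeff_natDegree, mul_one]
    · exact absurd h1.symm h2
    · exact absurd h2.symm h1
    · rw [add_zero]
  have h := congrArg (Polynomial.eval₂ g'.toRingHom ((1 : K) ⊗ₜ[ℤ] (j : A))) (hmap.trans (hP j))
  rw [Polynomial.eval₂_map, hcomp, Polynomial.eval₂_mul, (hR j).2, mul_zero]
    at h
  exact (Polynomial.hom_eval₂ _ _ _ _).trans h

/-- Prime ideals of `K ⊗ A` contract injectively. -/
theorem comap_includeRight_strictMono :
    HasIntFractions K → StrictMono (PrimeSpectrum.comap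
      (Algebra.TensorProduct.includeRight : A →ₐ[ℤ] K ⊗[ℤ] A).toRingHom) := by
  intro hK P Q hPQ
  refine lt_of_le_of_ne (fun x hx => hPQ.le hx) fun h => hPQ.ne (PrimeSpectrum.ext ?_)
  refine le_antisymm hPQ.le fun e he => ?_
  obtain ⟨n, a, hn, ha⟩ := exists_eq_tmul hK e
  have hu : IsUnit (n : K ⊗[ℤ] A) := by
    rw [← map_natCast (Algebra.TensorProduct.includeLeft (S := ℤ) : K →ₐ[ℤ] K ⊗[ℤ] A)]
    exact (isUnit_iff_ne_zero.2 hn).map _
  have h1 : a ∈ (PrimeSpectrum.comap
      (Algebra.TensorProduct.includeRight : A →ₐ[ℤ] K ⊗[ℤ] A).toRingHom Q).asIdeal := by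
    show (1 : K) ⊗ₜ[ℤ] a ∈ Q.asIdeal
    rw [← ha]
    exact Q.asIdeal.mul_mem_left _ he
  rw [← h] at h1
  have h2 : (n : K ⊗[ℤ] A) * e ∈ P.asIdeal := by rw [ha]; exact h1
  exact (Ideal.unit_mul_mem_iff_mem _ hu).1 h2

include hK in
theorem ringKrullDim_tensor_le : ringKrullDim (K ⊗[ℤ] A) ≤ ringKrullDim A :=
  Order.krullDim_le_of_strictMono _ (comap_includeRight_strictMono hK)

/-- The generic fibre has smaller dimension. -/
theorem ringKrullDim_generic_add_one_le [Algebra.FiniteType ℤ A] {s : ℕ}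
    (hs : (s : WithBot ℕ∞) ≤ ringKrullDim (ℚ ⊗[ℤ] A)) :
    ((s + 1 : ℕ) : WithBot ℕ∞) ≤ ringKrullDim A := by
  obtain ⟨l, hl⟩ := Order.le_krullDim_iff.1 hs
  let ι := (Algebra.TensorProduct.includeRight : A →ₐ[ℤ] ℚ ⊗[ℤ] A).toRingHom
  let l' := l.map (PrimeSpectrum.comap ι) (comap_includeRight_strictMono hasIntFractions_rat)
  obtain ⟨m, hm, hle⟩ := l'.last.asIdeal.exists_le_maximal l'.last.isPrime.ne_top
  have : m.IsMaximal := hm
  let := Ideal.Quotient.field m
  have := isJacobsonRing_int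
  have hfin : Module.Finite ℤ (A ⧸ m) :=
    finite_of_finite_type_of_isJacobsonRing ℤ (A ⧸ m)
  obtain ⟨N, hN, hNm⟩ : ∃ N : ℕ, N ≠ 0 ∧ (N : A) ∈ m := by
    by_contra hno
    have : CharZero (A ⧸ m) := charZero_of_inj_zero fun n hn => by
      by_contra hne
      exact hno ⟨n, hne, Ideal.Quotient.eq_zero_iff_mem.1 (by rw [map_natCast, hn])⟩
    have hint : Algebra.IsIntegral ℤ (A ⧸ m) := inferInstance
    exact Int.not_isField (isField_of_isIntegral_of_isField
      (algebraMap ℤ (A ⧸ m)).injective_int (Field.toIsField _))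
  have hlt : l'.last < (⟨m, hm.isPrime⟩ : PrimeSpectrum A) := by
    refine lt_of_le_of_ne hle fun h => ?_
    have h2 : (N : A) ∈ l'.last.asIdeal := by rw [h]; exact hNm
    rw [show l'.last = PrimeSpectrum.comap ι l.last from rfl] at h2
    have h3 : ι (N : A) ∈ l.last.asIdeal := h2
    rw [map_natCast] at h3
    refine l.last.isPrime.ne_top (Ideal.eq_top_of_isUnit_mem _ h3 ?_)
    rw [← map_natCast (Algebra.TensorProduct.includeLeft (S := ℤ) : ℚ →ₐ[ℤ] ℚ ⊗[ℤ] A)]
    exact (isUnit_iff_ne_zero.2 (Nat.cast_ne_zero.2 hN)).map _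
  have h := Order.LTSeries.length_le_krullDim (l'.snoc _ hlt)
  rw [show (l'.snoc _ hlt).length = s + 1 by simp [l', hl]] at h
  exact h

/-- **Points of the fibres over large primes.** -/
theorem exists_bound_large [Algebra.FiniteType ℤ A] (r : ℕ) (hr : ringKrullDim A ≤ r) :
    ∃ (N c : ℕ), 0 < N ∧ ∀ (F : Type v) [Field F] [Finite F], (N : F) ≠ 0 →
      Finite (A →+* F) ∧ (Nat.card (A →+* F) : ℝ) ≤ c * (Nat.card F : ℝ) ^ ((r : ℝ) - 1) := by
  classical
  obtain ⟨gens, hgen⟩ := Algebra.FiniteType.out (R := ℤ) (A := A)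
  have hker : ∀ e : A, (1 : ℚ) ⊗ₜ[ℤ] e = 0 → ∃ M : ℕ, M ≠ 0 ∧ (M : A) * e = 0 := by
    intro e he
    obtain ⟨⟨z, hz⟩, hze⟩ := (IsLocalizedModule.eq_zero_iff (nonZeroDivisors ℤ)
      (TensorProduct.mk ℤ ℚ A 1)).1 he
    refine ⟨z.natAbs, Int.natAbs_ne_zero.2 (nonZeroDivisors.ne_zero hz), ?_⟩
    have hze' : (z : A) * e = 0 := by rw [← zsmul_eq_mul]; exact hze
    rcases Int.natAbs_eq z with h | h <;> rw [h] at hze' <;> simpa using hze'
  rcases subsingleton_or_nontrivial (ℚ ⊗[ℤ] A) with hsub | hnt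
  · obtain ⟨M, hM, hM1⟩ := hker 1 (Subsingleton.elim _ _)
    refine ⟨M, 0, Nat.pos_of_ne_zero hM, fun F _ _ hF => ?_⟩
    have : IsEmpty (A →+* F) := ⟨fun φ => hF (by
      rw [← map_natCast φ M, ← mul_one (M : A), hM1, map_zero])⟩
    exact ⟨inferInstance, by simp⟩
  obtain ⟨s, a, M, D, P, hs, hM, hrel⟩ := exists_relations hasIntFractions_rat gens hgen
  choose M' hM' hM'e using fun j => hker _ (hrel j)
  refine ⟨∏ j, M j * M' j, ∏ j, (P j).natDegree,
    Finset.prod_pos fun j _ => Nat.mul_pos (Nat.pos_of_ne_zero fun h => (hM j).1 (by simp [h]))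
      (Nat.pos_of_ne_zero (hM' j)), fun F _ _ hF => ?_⟩
  rw [Nat.cast_prod, Finset.prod_ne_zero_iff] at hF
  obtain ⟨h1, h2⟩ := card_hom_le gens hgen a P (Set.univ : Set (A →+* F))
    (fun φ _ j => by
      have hj := hF j (Finset.mem_univ j)
      rw [Nat.cast_mul, mul_ne_zero_iff] at hj
      have h := congrArg φ (hM'e j)
      rw [map_mul, map_natCast, map_zero, mul_eq_zero, Polynomial.hom_eval₂] at h
      exact h.resolve_left hj.2)
    (fun φ _ j hzero => by
      have hj := hF j (Finset.mem_univ j)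
      rw [Nat.cast_mul, mul_ne_zero_iff] at hj
      have h := congrArg (fun Q => Polynomial.coeff Q (D j)) hzero
      simp only [Polynomial.coeff_map, Polynomial.coeff_zero, (hM j).2, map_natCast] at h
      exact hj.1 h)
  have hfin : Finite (A →+* F) := Finite.of_equiv _ (Equiv.Set.univ _)
  refine ⟨hfin, ?_⟩
  rw [Nat.card_congr (Equiv.Set.univ _)] at h2
  have hsr : s + 1 ≤ r := by
    have := (ringKrullDim_generic_add_one_le (A := A) hs.le).trans hr
    exact_mod_cast this
  calc (Nat.card (A →+* F) : ℝ)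
      ≤ ((∏ j : gens, (P j).natDegree : ℕ) : ℝ) * (Nat.card F : ℝ) ^ s := by exact_mod_cast h2
    _ ≤ _ := by
      refine mul_le_mul_of_nonneg_left ?_ (Nat.cast_nonneg _)
      rw [← Real.rpow_natCast]
      have hF1 : 1 ≤ Nat.card F := Nat.card_pos
      refine Real.rpow_le_rpow_of_exponent_le (by exact_mod_cast hF1) ?_
      have : (s : ℝ) + 1 ≤ r := by exact_mod_cast hsr
      linarith

/-- **Points of a single fibre.** -/
theorem exists_bound_prime [Algebra.FiniteType ℤ A] (r : ℕ) (hr : ringKrullDim A ≤ r) (p : ℕ)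
    [Fact p.Prime] :
    ∃ c : ℕ, ∀ (F : Type v) [Field F] [Finite F] [CharP F p],
      Finite (A →+* F) ∧ Nat.card (A →+* F) ≤ c * Nat.card F ^ r := by
  classical
  obtain ⟨gens, hgen⟩ := Algebra.FiniteType.out (R := ℤ) (A := A)
  have hfac : ∀ (F : Type v) [Field F] [CharP F p] (φ : A →+* F) (e : A),
      (1 : ZMod p) ⊗ₜ[ℤ] e = 0 → φ e = 0 := by
    intro F _ _ φ e he
    have := congrArg (Algebra.TensorProduct.lift (ZMod.castHom dvd_rfl F).toIntAlgHom φ.toIntAlgHom
      fun _ _ => Commute.all _ _) he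
    rwa [Algebra.TensorProduct.lift_tmul, map_zero, map_one, one_mul] at this
  rcases subsingleton_or_nontrivial (ZMod p ⊗[ℤ] A) with hsub | hnt
  · refine ⟨0, fun F _ _ _ => ?_⟩
    have : IsEmpty (A →+* F) := ⟨fun φ => one_ne_zero
      (φ.map_one.symm.trans (hfac F φ 1 (Subsingleton.elim _ _)))⟩
    exact ⟨inferInstance, by simp⟩
  obtain ⟨s, a, M, D, P, hs, hM, hrel⟩ := exists_relations (hasIntFractions_zmod p) gens hgen
  refine ⟨∏ j, (P j).natDegree, fun F _ _ _ => ?_⟩
  obtain ⟨h1, h2⟩ := card_hom_le gens hgen a P (Set.univ : Set (A →+* F))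
    (fun φ _ j => by
      have h := hfac F φ _ (hrel j)
      rwa [Polynomial.hom_eval₂] at h)
    (fun φ _ j hzero => by
      have h := congrArg (fun Q => Polynomial.coeff Q (D j)) hzero
      simp only [Polynomial.coeff_map, Polynomial.coeff_zero, (hM j).2, map_natCast] at h
      refine (hM j).1 ((ZMod.castHom dvd_rfl F).injective ?_)
      rw [map_natCast, h, map_zero])
  refine ⟨Finite.of_equiv _ (Equiv.Set.univ _), ?_⟩
  rw [Nat.card_congr (Equiv.Set.univ _)] at h2
  refine h2.trans (Nat.mul_le_mul_left _ (Nat.pow_le_pow_right Nat.card_pos ?_))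
  have := (hs.le.trans (ringKrullDim_tensor_le (A := A) (hasIntFractions_zmod p))).trans hr
  exact_mod_cast this

end

end Groth.Agent.ZetaLib
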