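import Groth.Agent.ZetaLib.SchemeCount
import Groth.Prelude.Def_W4c1zetahwZeta
import Mathlib.NumberTheory.LSeries.Convergence
import Mathlib.Analysis.PSeries
import Mathlib.Analysis.Normed.Group.Tannery
import Mathlib.Analysis.SpecificLimits.Normed
import Mathlib.Algebra.BigOperators.Finsupp.Basic

/-!
# Summability and nonvanishing of sums over finitely supported multiplicity functions
-/

universe u

open CategoryTheory AlgebraicGeometry Filter Topology

namespace Groth.Agent.ZetaLib

noncomputable section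

section Generic

variable {ι : Type u}

/-- The monomial `∏ z_i ^ α_i`. -/
def mon {M : Type*} [CommMonoid M] (z : ι → M) (α : ι →₀ ℕ) : M := α.prod fun i m => z i ^ m

theorem mon_add {M : Type*} [CommMonoid M] (z : ι → M) (α β : ι →₀ ℕ) :
    mon z (α + β) = mon z α * mon z β :=
  Finsupp.prod_add_index' (fun _ => pow_zero _) fun _ _ _ => pow_add _ _ _

theorem mon_single {M : Type*} [CommMonoid M] (z : ι → M) (i : ι) (m : ℕ) :
    mon z (Finsupp.single i m) = z i ^ m :=
  Finsupp.prod_single_index (pow_zero _)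

theorem norm_mon (z : ι → ℂ) (α : ι →₀ ℕ) : ‖mon z α‖ = mon (fun i => ‖z i‖) α := by
  simp [mon, Finsupp.prod, norm_prod, norm_pow]

theorem summable_mon (z : ι → ℝ) (θ : ℝ) (hθ : θ < 1) (h0 : ∀ i, 0 ≤ z i) (hz : ∀ i, z i ≤ θ)
    (hsum : Summable z) : Summable (mon z) := by
  classical
  have hnn : ∀ α, 0 ≤ mon z α := fun α => Finset.prod_nonneg fun i _ => pow_nonneg (h0 i) _
  refine summable_of_sum_le (c := Real.exp ((1 - θ)⁻¹ * ∑' i, z i)) hnn fun u => ?_
  set S := u.biUnion fun α => α.support with hS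
  set M := (u.sup fun α => α.sum fun _ m => m) + 1 with hM
  have hsupp : ∀ α ∈ u, α.support ⊆ S := fun α hα => Finset.subset_biUnion_of_mem (fun α => α.support) hα
  have hval : ∀ α ∈ u, ∀ i, α i < M := fun α hα i => by
    have h1 : α i ≤ α.sum fun _ m => m := by
      rcases em (i ∈ α.support) with h | h
      · exact Finset.single_le_sum (f := fun j => α j) (fun _ _ => Nat.zero_le _) h
      · simp [Finsupp.notMem_support_iff.1 h]
    have h2 := Finset.le_sup (f := fun α : ι →₀ ℕ => α.sum fun _ m => m) hα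
    exact Nat.lt_succ_of_le (h1.trans h2)
  calc ∑ α ∈ u, mon z α
      = ∑ α ∈ u, ∏ i ∈ S, z i ^ α i := Finset.sum_congr rfl fun α hα =>
        Finsupp.prod_of_support_subset α (hsupp α hα) _ fun i _ => pow_zero _
    _ = ∑ g ∈ u.image (fun α => fun i (_ : i ∈ S) => α i), ∏ i ∈ S.attach, z i.1 ^ g i.1 i.2 := by
        rw [Finset.sum_image]
        · exact Finset.sum_congr rfl fun α _ => (Finset.prod_attach S fun i => z i ^ α i).symm
        · intro α hα β hβ h
          ext i
          by_cases hi : i ∈ S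
          · exact congrFun (congrFun h i) hi
          · rw [Finsupp.notMem_support_iff.1 fun h' => hi (hsupp α hα h'),
              Finsupp.notMem_support_iff.1 fun h' => hi (hsupp β hβ h')]
    _ ≤ ∑ g ∈ S.pi fun _ => Finset.range M, ∏ i ∈ S.attach, z i.1 ^ g i.1 i.2 := by
        refine Finset.sum_le_sum_of_subset_of_nonneg ?_ fun g _ _ =>
          Finset.prod_nonneg fun i _ => pow_nonneg (h0 _) _
        intro g hg
        obtain ⟨α, hα, rfl⟩ := Finset.mem_image.1 hg
        exact Finset.mem_pi.2 fun i _ => Finset.mem_range.2 (hval α hα i)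
    _ = ∏ i ∈ S, ∑ m ∈ Finset.range M, z i ^ m :=
        (Finset.prod_sum S (fun _ => Finset.range M) fun i m => z i ^ m).symm
    _ ≤ ∏ i ∈ S, Real.exp ((1 - θ)⁻¹ * z i) := by
        refine Finset.prod_le_prod (fun i _ => Finset.sum_nonneg fun m _ => pow_nonneg (h0 i) _)
          fun i _ => ?_
        have h1 : z i < 1 := (hz i).trans_lt hθ
        have h2 : (0:ℝ) < 1 - z i := by linarith
        refine ((((summable_geometric_of_lt_one (h0 i) h1).sum_le_tsum (Finset.range M)
          fun m _ => pow_nonneg (h0 i) m)).trans_eq (tsum_geometric_of_lt_one (h0 i) h1)).trans ?_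
        have h3 : (1 - z i)⁻¹ = z i / (1 - z i) + 1 := by field_simp; ring
        rw [h3]
        refine (Real.add_one_le_exp _).trans (Real.exp_le_exp.2 ?_)
        rw [inv_mul_eq_div]
        exact div_le_div_of_nonneg_left (h0 i) (by linarith) (by linarith [hz i])
    _ = Real.exp ((1 - θ)⁻¹ * ∑ i ∈ S, z i) := by rw [Finset.mul_sum, Real.exp_sum]
    _ ≤ Real.exp ((1 - θ)⁻¹ * ∑' i, z i) :=
        Real.exp_le_exp.2 (mul_le_mul_of_nonneg_left (hsum.sum_le_tsum S fun i _ => h0 i)
          (inv_nonneg.2 (by linarith)))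

/-- A summable family of monomials has nonzero sum. -/
theorem tsum_mon_ne_zero (z : ι → ℂ) (h : Summable fun α => ‖mon z α‖) :
    ∑' α, mon z α ≠ 0 := by
  classical
  intro h0
  let ind : Finset ι → (ι →₀ ℕ) → ℂ := fun S α => if Disjoint α.support S then mon z α else 0
  have hle : ∀ S α, ‖ind S α‖ ≤ ‖mon z α‖ := fun S α => by
    simp only [ind]; split_ifs <;> simp
  have hs : ∀ S, Summable (ind S) := fun S => Summable.of_norm_bounded h (hle S)
  have hstep : ∀ S i, i ∉ S → ∑' α, ind (insert i S) α = (1 - z i) * ∑' α, ind S α := by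
    intro S i hi
    have h1 : ∀ α, ind S α = ind (insert i S) α +
        (if Disjoint α.support S ∧ α i ≠ 0 then mon z α else 0) := fun α => by
      simp only [ind, Finset.disjoint_insert_right, Finsupp.mem_support_iff, not_not]
      split_ifs <;> simp_all
    have h2 : Summable fun α => if Disjoint α.support S ∧ α i ≠ 0 then mon z α else 0 :=
      Summable.of_norm_bounded h fun α => by split_ifs <;> simp
    have h3 : (∑' α, if Disjoint α.support S ∧ α i ≠ 0 then mon z α else 0) =
        z i * ∑' α, ind S α := by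
      rw [← tsum_mul_left]
      let sh : (ι →₀ ℕ) → (ι →₀ ℕ) := fun α => α + Finsupp.single i 1
      have hsh : Function.Injective sh := fun a b hab => add_right_cancel hab
      rw [← hsh.tsum_eq (f := fun α => if Disjoint α.support S ∧ α i ≠ 0 then mon z α else 0)]
      · refine tsum_congr fun α => ?_
        have hd : Disjoint (sh α).support S ↔ Disjoint α.support S := by
          simp only [Finset.disjoint_left, Finsupp.mem_support_iff, sh, Finsupp.add_apply]
          refine forall_congr' fun j => ?_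
          rcases eq_or_ne j i with rfl | hj
          · simp [hi]
          · rw [Finsupp.single_eq_of_ne hj, add_zero]
        simp only [ind, hd]
        have : (sh α) i ≠ 0 := by simp [sh]
        simp only [this, ne_eq, not_false_eq_true, and_true]
        split_ifs
        · simp only [sh, mon_add, mon_single, pow_one, mul_comm]
        · simp
      · intro α hα
        simp only [Function.mem_support, ne_eq, ite_eq_right_iff, Classical.not_imp] at hα
        refine ⟨α - Finsupp.single i 1, ?_⟩
        ext j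
        rcases eq_or_ne j i with rfl | hj
        · simp [sh, Nat.one_le_iff_ne_zero.2 hα.1.2]
        · simp [sh, Finsupp.single_eq_of_ne hj]
    have h4 := (tsum_congr h1).trans ((hs _).tsum_add h2)
    rw [h3] at h4
    linear_combination -h4
  have hall : ∀ S, ∑' α, ind S α = 0 := fun S => by
    induction S using Finset.induction_on with
    | empty => simpa [ind] using h0
    | insert i S hi ih => rw [hstep S i hi, ih, mul_zero]
  have hlim : Tendsto (fun S => ∑' α, ind S α) atTop (𝓝 1) := by
    have h1 : (1 : ℂ) = ∑' α : ι →₀ ℕ, if α = 0 then 1 else 0 := by simp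
    rw [h1]
    refine tendsto_tsum_of_dominated_convergence h (fun α => ?_) (Eventually.of_forall fun S => hle S)
    rcases eq_or_ne α 0 with rfl | hα
    · simp [ind, mon]
    · obtain ⟨j, hj⟩ := Finsupp.support_nonempty_iff.2 hα
      refine tendsto_const_nhds.congr' ((eventually_ge_atTop {j}).mono fun S hS => ?_)
      simp only [ind, hα, if_false]
      rw [if_neg]
      exact fun hd => Finset.disjoint_left.1 hd hj (hS (Finset.mem_singleton_self j))
  simp only [hall] at hlim
  exact one_ne_zero (tendsto_nhds_unique hlim tendsto_const_nhds)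

end Generic

section Arith

variable {X : Scheme.{u}} (f : X ⟶ Spec (CommRingCat.of (ULift.{u} ℤ))) [LocallyOfFiniteType f]
  [QuasiCompact f]

/-- The closed points. -/
abbrev ClosedPt (X : Scheme.{u}) : Type u := {x : X // IsClosed ({x} : Set X)}

/-- The norm `#κ(x)` of a closed point. -/
def ptNorm (x : ClosedPt X) : ℕ := Nat.card (X.residueField x.1)

omit [QuasiCompact f] in
include f in
theorem two_le_ptNorm (x : ClosedPt X) : 2 ≤ ptNorm x := by
  have := finite_residueField f x.2
  exact Finite.one_lt_card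

theorem summable_prime_powers {p : ℕ} (hp : p.Prime) {a : ℝ} (ha : a < 0) (c : ℝ) :
    Summable ({n | ∃ m, n = p ^ m}.indicator fun n : ℕ => c * (n : ℝ) ^ a) := by
  refine ((Nat.pow_right_injective hp.two_le).summable_iff ?_).1 ?_
  · intro n hn
    refine Set.indicator_of_notMem ?_ _
    rintro ⟨m, rfl⟩
    exact hn ⟨m, rfl⟩
  · have h1 : ∀ m : ℕ, ({n | ∃ m, n = p ^ m}.indicator (fun n : ℕ => c * (n : ℝ) ^ a)) (p ^ m) =
        c * ((p : ℝ) ^ a) ^ m := fun m => by
      rw [Set.indicator_of_mem (show p ^ m ∈ {n | ∃ m, n = p ^ m} from ⟨m, rfl⟩), Nat.cast_pow,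
        ← Real.rpow_natCast_mul (Nat.cast_nonneg _), mul_comm (m : ℝ),
        Real.rpow_mul (Nat.cast_nonneg _), Real.rpow_natCast]
    refine (Summable.congr ?_ fun m => (h1 m).symm)
    refine (summable_geometric_of_lt_one (Real.rpow_nonneg (Nat.cast_nonneg _) _) ?_).mul_left c
    exact Real.rpow_lt_one_of_one_lt_of_neg (by exact_mod_cast hp.one_lt) ha

include f in
theorem summable_ptNorm (r : ℕ) (hr : topologicalKrullDim X ≤ r) {σ : ℝ} (hσ : r < σ) :
    Summable fun x : ClosedPt X => (ptNorm x : ℝ) ^ (-σ) := by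
  classical
  obtain ⟨c, p₀, hc, h⟩ := exists_bound f r hr
  have hfib : ∀ n, ∀ x₀ : ClosedPt X, ptNorm x₀ = n →
      Finite {x : ClosedPt X // ptNorm x = n} ∧
      ∃ p, p.Prime ∧ (∃ m, n = p ^ m) ∧
        Nat.card {x : ClosedPt X // ptNorm x = n} ≤ c * n ^ r ∧
        (p₀ ≤ p → (Nat.card {x : ClosedPt X // ptNorm x = n} : ℝ) ≤
          c * (n : ℝ) ^ ((r : ℝ) - 1)) := by
    intro n x₀ hx₀
    have hfin := finite_residueField f x₀.2
    obtain ⟨p, hp⟩ := CharP.exists (X.residueField x₀.1)
    have hprime : p.Prime := CharP.char_is_prime (X.residueField x₀.1) p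
    have := Fintype.ofFinite (X.residueField x₀.1)
    obtain ⟨m, -, hm⟩ := FiniteField.card (X.residueField x₀.1) p
    obtain ⟨hF, h2, h3⟩ := h p hprime (X.residueField x₀.1)
    have hn : Nat.card (X.residueField x₀.1) = n := hx₀
    obtain ⟨hf, hle⟩ := card_closedPoints_le (X := X) (X.residueField x₀.1) hn
    let e : {x : ClosedPt X // ptNorm x = n} ≃
        {x : X // IsClosed ({x} : Set X) ∧ Nat.card (X.residueField x) = n} :=
      Equiv.subtypeSubtypeEquivSubtypeInter _ fun x => Nat.card (X.residueField x) = n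
    have hn' : n = p ^ (m : ℕ) := by rw [← hn, Nat.card_eq_fintype_card, hm]
    refine ⟨Finite.of_equiv _ e.symm, p, hprime, ⟨m, hn'⟩, ?_, fun hpp => ?_⟩
    · rw [Nat.card_congr e, ← hn]
      rw [hn] at h2 ⊢
      exact hle.trans h2
    · have h4 := h3 hpp
      rw [hn] at h4
      rw [Nat.card_congr e]
      exact (Nat.cast_le.2 hle).trans h4
  rw [← (Equiv.sigmaFiberEquiv (ptNorm (X := X))).summable_iff]
  refine (summable_sigma_of_nonneg fun x => Real.rpow_nonneg (Nat.cast_nonneg _) _).2 ⟨fun n => ?_, ?_⟩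
  · rcases isEmpty_or_nonempty {x : ClosedPt X // ptNorm x = n} with he | ⟨⟨x₀, hx₀⟩⟩
    · exact summable_of_ne_finset_zero (s := ∅) fun x => isEmptyElim x
    · have := (hfib n x₀ hx₀).1
      exact Summable.of_finite
  have hbig : Summable fun n : ℕ => (c : ℝ) * (n : ℝ) ^ ((r : ℝ) - 1 - σ) :=
    (Real.summable_nat_rpow.2 (by linarith)).mul_left _
  have hsmall : Summable fun n : ℕ => ∑ p ∈ Finset.range p₀,
      if p.Prime then {n | ∃ m, n = p ^ m}.indicator (fun n : ℕ => (c : ℝ) * (n : ℝ) ^ ((r : ℝ) - σ)) n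
        else 0 :=
    summable_sum fun p _ => by
      by_cases hp : p.Prime
      · simp only [hp, if_true]
        exact summable_prime_powers hp (by linarith) _
      · simp only [hp, if_false]
        exact summable_zero
  refine (hbig.add hsmall).of_nonneg_of_le
    (fun n => tsum_nonneg fun x => Real.rpow_nonneg (Nat.cast_nonneg _) _) fun n => ?_
  have hnn : ∀ p ∈ Finset.range p₀, (0 : ℝ) ≤ if p.Prime then
      {n | ∃ m, n = p ^ m}.indicator (fun n : ℕ => (c : ℝ) * (n : ℝ) ^ ((r : ℝ) - σ)) n
        else 0 := fun p _ => by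
    split_ifs
    · exact Set.indicator_nonneg (fun n _ =>
        mul_nonneg (Nat.cast_nonneg _) (Real.rpow_nonneg (Nat.cast_nonneg _) _)) _
    · exact le_rfl
  have hnn1 : (0 : ℝ) ≤ (c : ℝ) * (n : ℝ) ^ ((r : ℝ) - 1 - σ) :=
    mul_nonneg (Nat.cast_nonneg _) (Real.rpow_nonneg (Nat.cast_nonneg _) _)
  rcases isEmpty_or_nonempty {x : ClosedPt X // ptNorm x = n} with he | ⟨⟨x₀, hx₀⟩⟩
  · have : IsEmpty {x : ClosedPt X // ptNorm x = n} := he
    exact le_of_eq_of_le tsum_empty (add_nonneg hnn1 (Finset.sum_nonneg hnn))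
  obtain ⟨hfin, p, hp, ⟨m, hm⟩, h2, h3⟩ := hfib n x₀ hx₀
  have hterm : (∑' x : {x : ClosedPt X // ptNorm x = n},
      ((ptNorm ((Equiv.sigmaFiberEquiv ptNorm) ⟨n, x⟩) : ℝ) ^ (-σ))) =
      (Nat.card {x : ClosedPt X // ptNorm x = n} : ℝ) * (n : ℝ) ^ (-σ) := by
    rw [← nsmul_eq_mul, ← tsum_const]
    exact tsum_congr fun x => by rw [Equiv.sigmaFiberEquiv_apply, x.2]
  refine hterm.trans_le ?_
  have hn0 : (0 : ℝ) < n := by rw [hm]; exact_mod_cast pow_pos hp.pos _
  rcases le_or_gt p₀ p with hpp | hpp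
  · refine le_trans ?_ (le_add_of_nonneg_right (Finset.sum_nonneg hnn))
    refine (mul_le_mul_of_nonneg_right (h3 hpp) (Real.rpow_nonneg hn0.le _)).trans_eq ?_
    rw [mul_assoc, ← Real.rpow_add hn0]
    rfl
  · refine le_trans ?_ (le_add_of_nonneg_left hnn1)
    refine le_trans ?_ (Finset.single_le_sum hnn (Finset.mem_range.2 hpp))
    rw [if_pos hp, Set.indicator_of_mem (show n ∈ {n | ∃ m, n = p ^ m} from ⟨m, hm⟩)]
    have h2' : (Nat.card {x : ClosedPt X // ptNorm x = n} : ℝ) ≤ c * (n : ℝ) ^ r := by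
      exact_mod_cast h2
    refine (mul_le_mul_of_nonneg_right h2' (Real.rpow_nonneg hn0.le _)).trans_eq ?_
    rw [mul_assoc, ← Real.rpow_natCast, ← Real.rpow_add hn0, sub_eq_add_neg]

/-- Cycles as finitely supported functions on closed points. -/
def cycleEquiv (X : Scheme.{u}) (n : ℕ) :
    { α : X →₀ ℕ // (∀ x ∈ α.support, IsClosed ({x} : Set X)) ∧
      α.prod (fun x m => Nat.card (X.residueField x) ^ m) = n } ≃
    { β : ClosedPt X →₀ ℕ // mon ptNorm β = n } :=
  (Equiv.subtypeSubtypeEquivSubtypeInter (fun α : X →₀ ℕ => ∀ x ∈ α.support, IsClosed ({x} : Set X))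
    fun α => α.prod (fun x m => Nat.card (X.residueField x) ^ m) = n).symm.trans
  ((Finsupp.restrictSupportEquiv {x : X | IsClosed ({x} : Set X)} ℕ).subtypeEquiv fun α => by
    classical
    rw [mon, Finsupp.prod, Finsupp.prod]
    refine Eq.congr_left ?_
    refine (Finset.prod_bij (fun x _ => x.1) ?_ ?_ ?_ ?_).symm
    · intro x hx; simpa [Finsupp.restrictSupportEquiv] using hx
    · intro x _ y _ h; exact Subtype.ext h
    · intro x hx; exact ⟨⟨x, α.2 hx⟩, by simpa [Finsupp.restrictSupportEquiv] using hx, rfl⟩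
    · intro x _; simp [Finsupp.restrictSupportEquiv, ptNorm])

theorem natCast_mon_cpow (β : ClosedPt X →₀ ℕ) (s : ℂ) :
    ((mon ptNorm β : ℕ) : ℂ) ^ s = mon (fun x => ((ptNorm x : ℕ) : ℂ) ^ s) β := by
  classical
  simp only [mon, Finsupp.prod]
  induction β.support using Finset.induction_on with
  | empty => simp
  | insert a t ha ih =>
    rw [Finset.prod_insert ha, Finset.prod_insert ha, Nat.cast_mul, Complex.natCast_mul_natCast_cpow,
      ih, Nat.cast_pow, ← Complex.cpow_nat_mul, ← Complex.natCast_cpow_natCast_mul]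

include f in
/-- **Convergence and nonvanishing of the zeta function of an arithmetic scheme.** -/
theorem lseries_arithCoeff (r : ℕ) (hr : topologicalKrullDim X ≤ r) {s : ℂ} (hs : (r : ℝ) < s.re) :
    LSeriesSummable (Zeta.arithCoeff X) s ∧ LSeries (Zeta.arithCoeff X) s ≠ 0 := by
  classical
  let z : ClosedPt X → ℂ := fun x => ((ptNorm x : ℕ) : ℂ) ^ (-s)
  have hpos : ∀ x : ClosedPt X, 0 < ptNorm x := fun x => by linarith [two_le_ptNorm f x]
  have hnz : ∀ x, ‖z x‖ = (ptNorm x : ℝ) ^ (-s.re) := fun x => by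
    rw [Complex.norm_natCast_cpow_of_pos (hpos x), Complex.neg_re]
  have hre : 0 < s.re := lt_of_le_of_lt (Nat.cast_nonneg r) hs
  have hsum : Summable fun β => ‖mon z β‖ := by
    simp only [norm_mon]
    refine summable_mon _ ((2 : ℝ) ^ (-s.re)) (Real.rpow_lt_one_of_one_lt_of_neg one_lt_two
      (by linarith)) (fun _ => norm_nonneg _) (fun x => ?_)
      ((summable_ptNorm f r hr hs).congr fun x => (hnz x).symm)
    rw [hnz]
    exact Real.rpow_le_rpow_of_nonpos two_pos (by exact_mod_cast two_le_ptNorm f x) (by linarith)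
  have hfib : HasSum (fun n => ∑' β : {β : ClosedPt X →₀ ℕ // mon ptNorm β = n}, mon z β.1)
      (∑' β, mon z β) := by
    have h1 := ((Equiv.sigmaFiberEquiv (mon (ptNorm (X := X)))).hasSum_iff).2
      hsum.of_norm.hasSum
    exact h1.sigma fun n => (hsum.of_norm.subtype _).hasSum
  have hterm : ∀ n, ∑' β : {β : ClosedPt X →₀ ℕ // mon ptNorm β = n}, mon z β.1 =
      LSeries.term (Zeta.arithCoeff X) s n := by
    intro n
    rcases Nat.eq_zero_or_pos n with rfl | hn
    · have : IsEmpty {β : ClosedPt X →₀ ℕ // mon ptNorm β = 0} := ⟨fun β => by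
        have h0 := β.2
        simp only [mon, Finsupp.prod, Finset.prod_eq_zero_iff, pow_eq_zero_iff'] at h0
        obtain ⟨x, -, hx, -⟩ := h0
        exact (hpos x).ne' hx⟩
      rw [tsum_empty, LSeries.term_zero]
    · have hval : ∀ β : {β : ClosedPt X →₀ ℕ // mon ptNorm β = n}, mon z β.1 = (n : ℂ) ^ (-s) :=
        fun β => by rw [← natCast_mon_cpow, β.2]
      rw [tsum_congr hval, tsum_const, nsmul_eq_mul, LSeries.term_of_ne_zero hn.ne',
        Zeta.arithCoeff, Zeta.cycleNormCount, Nat.card_congr (cycleEquiv X n), Complex.cpow_neg,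
        div_eq_mul_inv]
  simp only [hterm] at hfib
  exact ⟨hfib.summable, fun h => tsum_mon_ne_zero z hsum (hfib.tsum_eq.symm.trans h)⟩

include f in
theorem abscissa_le (r : ℕ) (hr : topologicalKrullDim X ≤ r) :
    LSeries.abscissaOfAbsConv (Zeta.arithCoeff X) ≤ (r : ℝ) :=
  LSeries.abscissaOfAbsConv_le_of_forall_lt_LSeriesSummable fun y hy =>
    (lseries_arithCoeff f r hr (s := (y : ℂ)) (by simpa using hy)).1

end Arith

end

end Groth.Agent.ZetaLib
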