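import Groth.Agent.ZetaLib.RingCount
import Mathlib.AlgebraicGeometry.ResidueField
import Mathlib.AlgebraicGeometry.Morphisms.FiniteType
import Mathlib.AlgebraicGeometry.Morphisms.Preimmersion
import Mathlib.AlgebraicGeometry.Morphisms.ClosedImmersion
import Mathlib.FieldTheory.Finite.GaloisField

/-!
# Counting points of schemes of finite type over `ℤ` with values in finite fields
-/

universe u

open CategoryTheory AlgebraicGeometry

namespace Groth.Agent.ZetaLib

noncomputable section

variable {X : Scheme.{u}}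

/-- A ring of finite type over `ULift ℤ` is of finite type over `ℤ`. -/
theorem finiteType_int_of_hom {A : Type u} [CommRing A] (φ : ULift.{u} ℤ →+* A)
    (hφ : φ.FiniteType) : Algebra.FiniteType ℤ A := by
  have h : (φ.comp (ULift.ringEquiv (R := ℤ)).symm.toRingHom).FiniteType :=
    hφ.comp (RingHom.FiniteType.of_surjective _ (ULift.ringEquiv (R := ℤ)).symm.surjective)
  rw [RingHom.ext_int (φ.comp _) (algebraMap ℤ A)] at h
  exact RingHom.finiteType_algebraMap.1 h

/-- A homomorphism to a finite ring is of finite type. -/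
theorem finiteType_of_finite {R : Type u} [CommRing R] {k : Type u} [CommRing k] [Finite k]
    (φ : R →+* k) : φ.FiniteType := by
  classical
  have := Fintype.ofFinite k
  let : Algebra R k := φ.toAlgebra
  rw [← RingHom.algebraMap_toAlgebra φ, RingHom.finiteType_algebraMap]
  exact ⟨⟨Finset.univ, eq_top_iff.2 fun x _ => Algebra.subset_adjoin (Finset.mem_univ x)⟩⟩

theorem finiteType_int_of_spec {A : Type u} [CommRing A]
    (g : Spec (CommRingCat.of A) ⟶ Spec (CommRingCat.of (ULift.{u} ℤ))) [LocallyOfFiniteType g] :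
    Algebra.FiniteType ℤ A := by
  refine finiteType_int_of_hom (Spec.preimage g).hom ?_
  rw [← HasRingHomProperty.Spec_iff (P := @LocallyOfFiniteType), Spec.map_preimage]
  infer_instance

variable (f : X ⟶ Spec (CommRingCat.of (ULift.{u} ℤ))) [LocallyOfFiniteType f]

include f in
/-- A finite affine cover by spectra of finitely generated rings. -/
theorem exists_affine_cover [QuasiCompact f] :
    ∃ (n : ℕ) (A : Fin n → CommRingCat.{u}) (j : ∀ i, Spec (A i) ⟶ X),
      (∀ i, IsOpenImmersion (j i)) ∧ (∀ i, Algebra.FiniteType ℤ (A i)) ∧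
      (∀ i, ringKrullDim (A i) ≤ topologicalKrullDim X) ∧ ∀ x : X, ∃ i, x ∈ Set.range (j i) := by
  have : CompactSpace X := QuasiCompact.compactSpace_of_compactSpace f
  let 𝒰 := X.affineCover.finiteSubcover
  let e := (Fintype.equivFin 𝒰.I₀).symm
  refine ⟨Fintype.card 𝒰.I₀, fun i => Γ(𝒰.X (e i), ⊤),
    fun i => (𝒰.X (e i)).isoSpec.inv ≫ 𝒰.f (e i), fun i => inferInstance, fun i => ?_, fun i => ?_,
    fun x => ?_⟩
  · exact finiteType_int_of_spec (A := Γ(𝒰.X (e i), ⊤))
      (((𝒰.X (e i)).isoSpec.inv ≫ 𝒰.f (e i)) ≫ f)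
  · rw [← PrimeSpectrum.topologicalKrullDim_eq_ringKrullDim]
    exact ((𝒰.X (e i)).isoSpec.inv ≫ 𝒰.f (e i)).isOpenEmbedding.isInducing.topologicalKrullDim_le
  · obtain ⟨y, hy⟩ := 𝒰.covers x
    obtain ⟨i, hi⟩ := e.surjective (𝒰.idx x)
    revert y
    rw [← hi]
    intro y hy
    exact ⟨i, (𝒰.X (e i)).isoSpec.hom y, by simpa [← Scheme.Hom.comp_apply] using hy⟩

include f in
theorem exists_cover [QuasiCompact f] (r : ℕ) (hr : topologicalKrullDim X ≤ r) :
    ∃ (n : ℕ) (A : Fin n → CommRingCat.{u}) (j : ∀ i, Spec (A i) ⟶ X),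
      (∀ i, IsOpenImmersion (j i)) ∧ (∀ i, Algebra.FiniteType ℤ (A i)) ∧
      (∀ i, ringKrullDim (A i) ≤ r) ∧ ∀ x : X, ∃ i, x ∈ Set.range (j i) := by
  obtain ⟨n, A, j, h1, h2, h3, h4⟩ := exists_affine_cover f
  exact ⟨n, A, j, h1, h2, fun i => (h3 i).trans hr, h4⟩

/-- Points with values in a field factor through a cover. -/
theorem surjective_points {n : ℕ} {A : Fin n → CommRingCat.{u}} (j : ∀ i, Spec (A i) ⟶ X)
    [∀ i, IsOpenImmersion (j i)] (hcov : ∀ x : X, ∃ i, x ∈ Set.range (j i))
    (F : Type u) [Field F] :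
    Function.Surjective fun t : Σ i, ((A i : Type u) →+* F) =>
      Spec.map (CommRingCat.ofHom t.2) ≫ j t.1 := by
  intro g
  obtain ⟨i, hi⟩ := hcov (g (IsLocalRing.closedPoint F))
  have hsub : Set.range g ⊆ Set.range (j i) := by
    rintro _ ⟨y, rfl⟩
    obtain rfl : y = IsLocalRing.closedPoint F := Subsingleton.elim _ _
    exact hi
  refine ⟨⟨i, (Spec.preimage (IsOpenImmersion.lift (j i) g hsub)).hom⟩, ?_⟩
  simp only [CommRingCat.ofHom_hom, Spec.map_preimage, IsOpenImmersion.lift_fac]

theorem card_points_le {n : ℕ} {A : Fin n → CommRingCat.{u}} (j : ∀ i, Spec (A i) ⟶ X)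
    [∀ i, IsOpenImmersion (j i)] (hcov : ∀ x : X, ∃ i, x ∈ Set.range (j i))
    (F : Type u) [Field F] (hfin : ∀ i, Finite ((A i : Type u) →+* F)) :
    Finite (Spec (CommRingCat.of F) ⟶ X) ∧
      Nat.card (Spec (CommRingCat.of F) ⟶ X) ≤ ∑ i, Nat.card ((A i : Type u) →+* F) := by
  have hs := surjective_points j hcov F
  refine ⟨Finite.of_surjective _ hs, ?_⟩
  rw [← Nat.card_sigma]
  exact Nat.card_le_card_of_surjective _ hs

theorem charP_of_natCard {F : Type u} [Field F] {p m : ℕ} (hp : p.Prime)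
    (hF : Nat.card F = p ^ m) : Finite F ∧ CharP F p := by
  have hfin : Finite F := Nat.finite_of_card_ne_zero (by rw [hF]; exact pow_ne_zero _ hp.ne_zero)
  refine ⟨hfin, ?_⟩
  have := Fintype.ofFinite F
  have h0 : ((p ^ m : ℕ) : F) = 0 := by
    rw [← hF, Nat.card_eq_fintype_card]
    exact FiniteField.cast_card_eq_zero F
  rw [Nat.cast_pow] at h0
  exact (CharP.charP_iff_prime_eq_zero hp).2 (eq_zero_of_pow_eq_zero h0)

include f in
/-- **Point counts of a scheme of finite type over `ℤ`.** -/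
theorem exists_bound [QuasiCompact f] (r : ℕ) (hr : topologicalKrullDim X ≤ r) :
    ∃ (c : ℕ) (p₀ : ℕ), 0 < c ∧ ∀ (p : ℕ), p.Prime →
      ∀ (F : Type u) [Field F] [Finite F] [CharP F p],
        Finite (Spec (CommRingCat.of F) ⟶ X) ∧
        Nat.card (Spec (CommRingCat.of F) ⟶ X) ≤ c * Nat.card F ^ r ∧
        (p₀ ≤ p → (Nat.card (Spec (CommRingCat.of F) ⟶ X) : ℝ) ≤
          c * (Nat.card F : ℝ) ^ ((r : ℝ) - 1)) := by
  classical
  obtain ⟨n, A, j, hj, hft, hdim, hcov⟩ := exists_cover f r hr
  choose N c hN hc using fun i =>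
    exists_bound_large.{u, u} (A := A i) r (hdim i)
  choose c' hc' using fun (i : Fin n) (p : {q : ℕ // q.Prime}) =>
    have : Fact p.1.Prime := ⟨p.2⟩
    exists_bound_prime.{u, u} (A := A i) r (hdim i) p.1
  let cp : ℕ → ℕ := fun p => if h : p.Prime then ∑ i, c' i ⟨p, h⟩ else 0
  refine ⟨∑ i, c i + ∑ p ∈ Finset.range ((∏ i, N i) + 1), cp p + 1, (∏ i, N i) + 1,
    Nat.succ_pos _, fun p hp F _ _ _ => ?_⟩
  have : Fact p.Prime := ⟨hp⟩
  have hfin : ∀ i, Finite ((A i : Type u) →+* F) := fun i => (hc' i ⟨p, hp⟩ F).1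
  obtain ⟨hF, hle⟩ := card_points_le j hcov F hfin
  have hlarge : (∏ i, N i) + 1 ≤ p → (Nat.card (Spec (CommRingCat.of F) ⟶ X) : ℝ) ≤
      ((∑ i, c i : ℕ) : ℝ) * (Nat.card F : ℝ) ^ ((r : ℝ) - 1) := by
    intro hpN
    have hne : ((∏ i, N i : ℕ) : F) ≠ 0 := by
      rw [Ne, CharP.cast_eq_zero_iff F p]
      exact fun h => absurd (Nat.le_of_dvd (Finset.prod_pos fun i _ => hN i) h) (by omega)
    rw [Nat.cast_prod, Finset.prod_ne_zero_iff] at hne
    refine (Nat.cast_le.2 hle).trans ?_
    rw [Nat.cast_sum, Nat.cast_sum, Finset.sum_mul]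
    exact Finset.sum_le_sum fun i _ => (hc i F (hne i (Finset.mem_univ i))).2
  refine ⟨hF, ?_, fun hpN => (hlarge hpN).trans (mul_le_mul_of_nonneg_right
    (Nat.cast_le.2 (by omega)) (Real.rpow_nonneg (Nat.cast_nonneg _) _))⟩
  rcases le_or_gt ((∏ i, N i) + 1) p with hpN | hpN
  · have h1 : (Nat.card (Spec (CommRingCat.of F) ⟶ X) : ℝ) ≤
        ((∑ i, c i : ℕ) : ℝ) * (Nat.card F : ℝ) ^ r := by
      refine (hlarge hpN).trans (mul_le_mul_of_nonneg_left ?_ (Nat.cast_nonneg _))
      rw [← Real.rpow_natCast]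
      have h1 : 1 ≤ Nat.card F := Nat.card_pos
      exact Real.rpow_le_rpow_of_exponent_le (by exact_mod_cast h1) (by linarith)
    have h2 : Nat.card (Spec (CommRingCat.of F) ⟶ X) ≤ (∑ i, c i) * Nat.card F ^ r := by
      exact_mod_cast h1
    exact h2.trans (Nat.mul_le_mul_right _ (by omega))
  · refine hle.trans ((Finset.sum_le_sum fun i _ => (hc' i ⟨p, hp⟩ F).2).trans ?_)
    rw [← Finset.sum_mul]
    refine Nat.mul_le_mul_right _ ?_
    have h3 : cp p ≤ ∑ q ∈ Finset.range ((∏ i, N i) + 1), cp q :=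
      Finset.single_le_sum (fun _ _ => Nat.zero_le _) (Finset.mem_range.2 hpN)
    have h4 : cp p = ∑ i, c' i ⟨p, hp⟩ := dif_pos hp
    omega

/-- A field of finite type over `ℤ` is finite. -/
theorem finite_of_finiteType_int (K : Type u) [Field K] [Algebra.FiniteType ℤ K] : Finite K := by
  have := isJacobsonRing_int
  have hfin : Module.Finite ℤ K := finite_of_finite_type_of_isJacobsonRing ℤ K
  obtain ⟨p, hp⟩ := CharP.exists K
  rcases CharP.char_is_prime_or_zero K p with hprime | rfl
  · have : Fact p.Prime := ⟨hprime⟩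
    let := ZMod.algebra K p
    have : Module.Finite (ZMod p) K := Module.Finite.of_restrictScalars_finite ℤ (ZMod p) K
    exact Module.finite_of_finite (ZMod p)
  · have : CharZero K := CharP.charP_to_charZero K
    exact (Int.not_isField (isField_of_isIntegral_of_isField
      (algebraMap ℤ K).injective_int (Field.toIsField _))).elim

include f in
theorem finite_residueField {x : X} (hx : IsClosed ({x} : Set X)) : Finite (X.residueField x) := by
  have : IsClosedImmersion (X.fromSpecResidueField x) :=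
    IsClosedImmersion.of_isPreimmersion _ (by rw [Scheme.range_fromSpecResidueField]; exact hx)
  have := finiteType_int_of_spec (A := X.residueField x) (X.fromSpecResidueField x ≫ f)
  exact finite_of_finiteType_int _

/-- Closed points with residue field of cardinality `n` inject into the points with values in a
field with `n` elements. -/
theorem card_closedPoints_le {n : ℕ} (F : Type u) [Field F] [Finite F] (hF : Nat.card F = n)
    [Finite (Spec (CommRingCat.of F) ⟶ X)] :
    Finite {x : X // IsClosed ({x} : Set X) ∧ Nat.card (X.residueField x) = n} ∧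
    Nat.card {x : X // IsClosed ({x} : Set X) ∧ Nat.card (X.residueField x) = n} ≤
      Nat.card (Spec (CommRingCat.of F) ⟶ X) := by
  classical
  have := Fintype.ofFinite F
  have hex : ∀ x : {x : X // IsClosed ({x} : Set X) ∧ Nat.card (X.residueField x) = n},
      Nonempty ((X.residueField x.1) ≃+* F) := fun x => by
    have hx : Nat.card (X.residueField x.1) = Nat.card F := by rw [hF, x.2.2]
    have : Finite (X.residueField x.1) :=
      Nat.finite_of_card_ne_zero (by rw [hx]; exact Nat.card_pos.ne')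
    have := Fintype.ofFinite (X.residueField x.1)
    exact ⟨FiniteField.ringEquivOfCardEq
      (by rw [← Nat.card_eq_fintype_card, ← Nat.card_eq_fintype_card, hx])⟩
  let g : {x : X // IsClosed ({x} : Set X) ∧ Nat.card (X.residueField x) = n} →
      (Spec (CommRingCat.of F) ⟶ X) := fun x =>
    Spec.map (CommRingCat.ofHom (hex x).some.toRingHom) ≫ X.fromSpecResidueField x.1
  have hg : Function.Injective g := fun x y h => by
    have := congrArg (fun t : Spec (CommRingCat.of F) ⟶ X => t (IsLocalRing.closedPoint F)) h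
    change (X.fromSpecResidueField x.1) _ = (X.fromSpecResidueField y.1) _ at this
    rw [Scheme.fromSpecResidueField_apply, Scheme.fromSpecResidueField_apply] at this
    exact Subtype.ext this
  exact ⟨Finite.of_injective g hg, Nat.card_le_card_of_injective g hg⟩

end

end Groth.Agent.ZetaLib
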