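import Groth.Agent.ZetaLib.ProjPoints
import Groth.Agent.WeilLib.ZetaIdentity
import Mathlib.AlgebraicGeometry.Pullbacks
import Mathlib.RingTheory.RootsOfUnity.PrimitiveRoots

/-!
# The zeta function after a finite extension of the base field
-/

universe u

open CategoryTheory CategoryTheory.Limits AlgebraicGeometry
open PowerSeries (subst rescale)

namespace Groth.Agent.ZetaLib

open Groth.Agent.WeilLib

noncomputable section

variable {k : Type u} [Field k] {X : Scheme.{u}} (f : X ⟶ Spec (CommRingCat.of k))
  (k' : Type u) [Field k'] [Algebra k k']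

/-- Points of the base change with values in an extension of the new base field. -/
theorem pointCount_baseChange (L : Type u) [Field L] [Algebra k' L] [Algebra k L]
    [IsScalarTower k k' L] :
    SgaExt.pointCount (pullback.snd f (Spec.map (CommRingCat.ofHom (algebraMap k k')))) L =
      SgaExt.pointCount f L := by
  have e : Spec.map (CommRingCat.ofHom (algebraMap k' L)) ≫
      Spec.map (CommRingCat.ofHom (algebraMap k k')) = Spec.map (CommRingCat.ofHom (algebraMap k L)) := by
    rw [← Spec.map_comp, ← CommRingCat.ofHom_comp, ← IsScalarTower.algebraMap_eq]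
  refine Nat.card_congr
    { toFun := fun g => ⟨g.1 ≫ pullback.fst _ _, by
        rw [Category.assoc, pullback.condition, ← Category.assoc, g.2, e]⟩
      invFun := fun h => ⟨pullback.lift h.1 (Spec.map (CommRingCat.ofHom (algebraMap k' L)))
        (by rw [h.2, e]), pullback.lift_snd _ _ _⟩
      left_inv := fun g => Subtype.ext (pullback.hom_ext (pullback.lift_fst _ _ _)
        ((pullback.lift_snd _ _ _).trans g.2.symm))
      right_inv := fun h => Subtype.ext (pullback.lift_fst _ _ _) }

variable [Finite k] [Finite k'] [LocallyOfFiniteType f] [QuasiCompact f]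

/-- `N_m(X') = N_{rm}(X)`. -/
theorem nPts_baseChange (m : ℕ) :
    Zeta.nPts (pullback.snd f (Spec.map (CommRingCat.ofHom (algebraMap k k')))) m =
      Zeta.nPts f (Module.finrank k k' * m) := by
  rcases Nat.eq_zero_or_pos m with rfl | hm
  · simp [Zeta.nPts]
  obtain ⟨p, hp⟩ := CharP.exists k'
  have : Fact p.Prime := ⟨CharP.char_is_prime k' p⟩
  have : NeZero m := ⟨hm.ne'⟩
  let L := ULift.{u} (FiniteField.Extension k' p m)
  letI : Algebra k L := ((algebraMap k' L).comp (algebraMap k k')).toAlgebra
  haveI : IsScalarTower k k' L := IsScalarTower.of_algebraMap_eq fun _ => rfl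
  have hfr : Module.finrank k' L = m :=
    ULift.moduleEquiv.finrank_eq.trans (FiniteField.finrank_extension k' p m)
  have h1 := pointCount_eq_nPts (pullback.snd f (Spec.map (CommRingCat.ofHom (algebraMap k k')))) L
  have h2 := pointCount_eq_nPts f L
  rw [pointCount_baseChange f k' L, h2, hfr] at h1
  have hft : Module.finrank k k' * m = Module.finrank k L := by
    rw [← Module.finrank_mul_finrank k k' L, hfr]
  rw [hft]
  exact h1.symm

/-- `Z(X', t^r) = ∏ Z(X, ξ^i t)`. -/
theorem zetaFun_baseChange (ξ : ℂ) (hξ : IsPrimitiveRoot ξ (Module.finrank k k')) :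
    PowerSeries.subst ((PowerSeries.X : PowerSeries ℂ) ^ Module.finrank k k')
        (PowerSeries.map (algebraMap ℚ ℂ) (Zeta.zetaFun
          (pullback.snd f (Spec.map (CommRingCat.ofHom (algebraMap k k')))))) =
      ∏ i ∈ Finset.range (Module.finrank k k'),
        PowerSeries.rescale (ξ ^ i) (PowerSeries.map (algebraMap ℚ ℂ) (Zeta.zetaFun f)) := by
  classical
  set r := Module.finrank k k' with hr
  have : Module.Finite k k' := Module.Finite.of_finite
  have hr0 : 0 < r := Module.finrank_pos
  set f' := pullback.snd f (Spec.map (CommRingCat.ofHom (algebraMap k k'))) with hf'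
  let a : ℕ → ℚ := fun n => if r ∣ n then (r : ℚ) * Zeta.nPts f n else 0
  have hX : PowerSeries.HasSubst ((PowerSeries.X : PowerSeries ℚ) ^ r) := .X_pow hr0.ne'
  have hL : PowerSeries.subst ((PowerSeries.X : PowerSeries ℚ) ^ r) (Zeta.logZeta f') =
      PowerSeries.mk fun n => a n / n := by
    ext n
    rw [PowerSeries.coeff_subst_X_pow hr0.ne', PowerSeries.coeff_mk]
    simp only [a]
    split_ifs with h
    · obtain ⟨d, rfl⟩ := h
      rw [Nat.mul_div_cancel_left _ hr0, Zeta.logZeta, PowerSeries.coeff_mk, nPts_baseChange f k' d,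
        Nat.cast_mul, Algebra.algebraMap_self, RingHom.id_apply, mul_div_mul_left _ _ (Nat.cast_ne_zero.2 hr0.ne')]
    · rw [zero_div]
  have hL0 : PowerSeries.constantCoeff (PowerSeries.mk fun n => a n / n : PowerSeries ℚ) = 0 :=
    constantCoeff_mk_div _
  have hsub : PowerSeries.subst ((PowerSeries.X : PowerSeries ℚ) ^ r) (Zeta.zetaFun f') =
      PowerSeries.subst (PowerSeries.mk fun n => a n / n : PowerSeries ℚ) (PowerSeries.exp ℚ) := by
    have h0 : PowerSeries.HasSubst (Zeta.logZeta f') :=
      PowerSeries.HasSubst.of_constantCoeff_zero' (constantCoeff_mk_div _)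
    rw [Zeta.zetaFun, PowerSeries.subst_comp_subst_apply h0 hX, hL]
  have hld : HasLogDeriv (PowerSeries.subst ((PowerSeries.X : PowerSeries ℚ) ^ r) (Zeta.zetaFun f'))
      (PowerSeries.mk fun n => a (n + 1)) := by
    rw [hsub]
    have h := hasLogDeriv_exp_subst hL0
    rwa [derivative_mk_div] at h
  have hc0 : PowerSeries.constantCoeff
      (PowerSeries.subst ((PowerSeries.X : PowerSeries ℚ) ^ r) (Zeta.zetaFun f')) = 1 := by
    rw [hsub]; exact constantCoeff_exp_subst hL0
  have hmap : PowerSeries.subst ((PowerSeries.X : PowerSeries ℂ) ^ r)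
      (PowerSeries.map (algebraMap ℚ ℂ) (Zeta.zetaFun f')) =
      PowerSeries.map (algebraMap ℚ ℂ)
        (PowerSeries.subst ((PowerSeries.X : PowerSeries ℚ) ^ r) (Zeta.zetaFun f')) := by
    refine ((PowerSeries.map_subst hX (h := algebraMap ℚ ℂ) (Zeta.zetaFun f')).trans ?_).symm
    exact congrArg (fun z : PowerSeries ℂ => PowerSeries.subst z _)
      (show PowerSeries.map (algebraMap ℚ ℂ) ((PowerSeries.X : PowerSeries ℚ) ^ r) = _ by
        rw [map_pow, PowerSeries.map_X])
  rw [hmap]
  -- the two logarithmic derivatives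
  have hresc : ∀ c : ℂ, HasLogDeriv
      (PowerSeries.rescale c (PowerSeries.map (algebraMap ℚ ℂ) (Zeta.zetaFun f)))
      (PowerSeries.mk fun n => c ^ (n + 1) * (Zeta.nPts f (n + 1) : ℂ)) := by
    intro c
    have h := (hasLogDeriv_zetaFun f).map (φ := algebraMap ℚ ℂ)
    set F := PowerSeries.map (algebraMap ℚ ℂ) (Zeta.zetaFun f) with hF
    have hd : PowerSeries.derivative ℂ (PowerSeries.rescale c F) =
        PowerSeries.C c * PowerSeries.rescale c (PowerSeries.derivative ℂ F) := by
      ext n
      simp only [PowerSeries.coeff_derivative, PowerSeries.coeff_rescale, PowerSeries.coeff_C_mul]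
      ring
    have hD : PowerSeries.C c * PowerSeries.rescale c
        (PowerSeries.map (algebraMap ℚ ℂ) (PowerSeries.mk fun m => (Zeta.nPts f (m + 1) : ℚ))) =
        PowerSeries.mk fun n => c ^ (n + 1) * (Zeta.nPts f (n + 1) : ℂ) := by
      ext n
      simp only [PowerSeries.coeff_C_mul, PowerSeries.coeff_rescale, PowerSeries.coeff_map,
        PowerSeries.coeff_mk, map_natCast]
      ring
    rw [HasLogDeriv, hd, h, map_mul, ← hD]
    ring
  have hR := HasLogDeriv.prod (Finset.range r) (fun i _ => hresc (ξ ^ i))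
  have hL' := hld.map (φ := algebraMap ℚ ℂ)
  have hDD : (PowerSeries.map (algebraMap ℚ ℂ) (PowerSeries.mk fun n => a (n + 1))) =
      ∑ i ∈ Finset.range r,
        (PowerSeries.mk fun n => (ξ ^ i) ^ (n + 1) * (Zeta.nPts f (n + 1) : ℂ)) := by
    ext n
    simp only [map_sum, PowerSeries.coeff_map, PowerSeries.coeff_mk, a, ← Finset.sum_mul]
    have hs : ∑ i ∈ Finset.range r, (ξ ^ i) ^ (n + 1) = if r ∣ n + 1 then (r : ℂ) else 0 := by
      simp only [← pow_mul, mul_comm _ (n + 1)]
      simp only [pow_mul]
      split_ifs with h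
      · rw [(hξ.pow_eq_one_iff_dvd (n + 1)).2 h]; simp
      · have hne : ξ ^ (n + 1) ≠ 1 := fun e => h ((hξ.pow_eq_one_iff_dvd (n + 1)).1 e)
        rw [geom_sum_eq hne, ← pow_mul, mul_comm, pow_mul, hξ.pow_eq_one, one_pow, sub_self, zero_div]
    rw [hs]
    split_ifs <;> simp
  rw [hDD] at hL'
  refine hL'.unique hR ?_
  have hcm : ∀ F : PowerSeries ℚ, PowerSeries.constantCoeff (PowerSeries.map (algebraMap ℚ ℂ) F) =
      algebraMap ℚ ℂ (PowerSeries.constantCoeff F) := fun F => by
    rw [← PowerSeries.coeff_zero_eq_constantCoeff_apply, PowerSeries.coeff_map,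
      PowerSeries.coeff_zero_eq_constantCoeff_apply]
  rw [map_prod, hcm, hc0, map_one]
  refine (Finset.prod_eq_one fun i _ => ?_).symm
  rw [← PowerSeries.coeff_zero_eq_constantCoeff_apply, PowerSeries.coeff_rescale, pow_zero, one_mul,
    PowerSeries.coeff_zero_eq_constantCoeff_apply, hcm, constantCoeff_zetaFun, map_one]

end

end Groth.Agent.ZetaLib
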