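import Groth.Agent.ZetaLib.PointsOfExt
import Groth.Agent.WeilLib.Fixed
import Groth.Agent.WeilLib.ZetaIdentity
import Groth.Prelude.Def_FinFr
import Mathlib.AlgebraicGeometry.Morphisms.Immersion

/-!
# The fixed point scheme of the Frobenius is reduced and finite
-/

universe u v

open CategoryTheory AlgebraicGeometry Limits

namespace Groth.Agent.ZetaLib

open Groth.Agent.WeilLib

noncomputable section

section Algebra

variable {K : Type u} [Field K] {O : Type v} [CommRing O] [Algebra K O]

/-- In characteristic `p`, the span of the `p^e`-fixed elements has no nilpotents. -/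
theorem eq_zero_of_pow_eq_zero_fixed (p e : ℕ) [Fact p.Prime] [CharP K p] {x : O}
    (hx : x ∈ Submodule.span K {b : O | b ^ p ^ e = b}) {m : ℕ} (hm : x ^ (p ^ e) ^ m = 0) :
    x = 0 := by
  rcases subsingleton_or_nontrivial O with h | h
  · exact Subsingleton.elim _ _
  have : CharP O p := charP_of_injective_algebraMap (algebraMap K O).injective p
  obtain ⟨b, hb, hspan, hli⟩ := exists_linearIndependent K {b : O | b ^ p ^ e = b}
  rw [← hspan, ← Subtype.range_val (s := b), Finsupp.mem_span_range_iff_exists_finsupp] at hx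
  obtain ⟨c, rfl⟩ := hx
  have hfix : ∀ i : {x // x ∈ b}, ∀ j : ℕ, (i : O) ^ (p ^ e) ^ j = i := fun i j => by
    induction j with
    | zero => simp
    | succ j ih => rw [pow_succ, pow_mul, ih, hb i.2]
  rw [← pow_mul, Finsupp.sum, sum_pow_char_pow] at hm
  have hsum : ∑ i ∈ c.support, (c i ^ p ^ (e * m)) • (i : O) = 0 := by
    rw [← hm]
    refine Finset.sum_congr rfl fun i _ => ?_
    rw [smul_pow, pow_mul, hfix]
  have := linearIndependent_iff'.1 hli c.support _ hsum
  exact Finset.sum_eq_zero fun i hi => by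
    dsimp only
    rw [(pow_eq_zero_iff (pow_ne_zero _ (Fact.out : p.Prime).ne_zero)).1 (this i hi), zero_smul]

theorem mul_mem_span_fixed (q : ℕ) {x y : O} (hx : x ∈ Submodule.span K {b : O | b ^ q = b})
    (hy : y ∈ Submodule.span K {b : O | b ^ q = b}) :
    x * y ∈ Submodule.span K {b : O | b ^ q = b} := by
  induction hx using Submodule.span_induction with
  | mem a ha =>
    induction hy using Submodule.span_induction with
    | mem b hb =>
      refine Submodule.subset_span (show (a * b) ^ q = a * b from ?_)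
      rw [mul_pow, show a ^ q = a from ha, show b ^ q = b from hb]
    | zero => rw [mul_zero]; exact Submodule.zero_mem _
    | add b c _ _ h1 h2 => rw [mul_add]; exact Submodule.add_mem _ h1 h2
    | smul r b _ h1 => rw [mul_smul_comm]; exact Submodule.smul_mem _ r h1
  | zero => rw [zero_mul]; exact Submodule.zero_mem _
  | add b c _ _ h1 h2 => rw [add_mul]; exact Submodule.add_mem _ h1 h2
  | smul r b _ h1 => rw [smul_mul_assoc]; exact Submodule.smul_mem _ r h1

end Algebra

section Geometry

variable {k₀ : Type u} [Field k₀] {K : Type u} [Field K] [Algebra k₀ K]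
variable {X Y : Scheme.{u}} {f : X ⟶ Spec (CommRingCat.of k₀)} {π : Y ⟶ X}
variable {g : Y ⟶ Spec (CommRingCat.of K)} {F : Y ⟶ Y} (hF : F ≫ g = g)

theorem fst_eq_snd :
    pullback.fst (pullback.lift (𝟙 Y) F (by rw [hF, Category.id_comp]) : Y ⟶ pullback g g)
        (pullback.lift (𝟙 Y) (𝟙 Y) rfl : Y ⟶ pullback g g) = pullback.snd _ _ := by
  have := congrArg (· ≫ pullback.fst g g) (pullback.condition
    (f := (pullback.lift (𝟙 Y) F (by rw [hF, Category.id_comp]) : Y ⟶ pullback g g))
    (g := (pullback.lift (𝟙 Y) (𝟙 Y) rfl : Y ⟶ pullback g g)))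
  erw [Category.assoc, Category.assoc, pullback.lift_fst, pullback.lift_fst, Category.comp_id,
    Category.comp_id] at this
  exact this

/-- The inclusion of the fixed point scheme. -/
abbrev incl : FinFr.fixScheme g F hF ⟶ Y := pullback.fst _ _

theorem incl_comp : incl hF ≫ F = incl hF := by
  have := congrArg (· ≫ pullback.snd g g) (pullback.condition
    (f := (pullback.lift (𝟙 Y) F (by rw [hF, Category.id_comp]) : Y ⟶ pullback g g))
    (g := (pullback.lift (𝟙 Y) (𝟙 Y) rfl : Y ⟶ pullback g g)))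
  simp only [Category.assoc, pullback.lift_snd, Category.comp_id] at this
  exact this.trans (fst_eq_snd hF).symm

instance isImmersion_incl : IsImmersion (incl hF) := by
  have : IsImmersion (pullback.lift (𝟙 Y) (𝟙 Y) rfl : Y ⟶ pullback g g) :=
    inferInstanceAs (IsImmersion (pullback.diagonal g))
  exact MorphismProperty.of_isPullback (P := @IsImmersion) (IsPullback.of_hasPullback
    (pullback.lift (𝟙 Y) F (by rw [hF, Category.id_comp]) : Y ⟶ pullback g g) _).flip this

/-- **The fixed point scheme of a power lift is reduced.** -/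
theorem isReduced_fixScheme
    (hpb : IsPullback π g f (Spec.map (CommRingCat.ofHom (algebraMap k₀ K))))
    (p e : ℕ) [Fact p.Prime] [CharP K p] (he : 0 < e) (hG : IsPowLift π F (p ^ e)) :
    IsReduced (FinFr.fixScheme g F hF) := by
  have hstalk : ∀ w, _root_.IsReduced ((FinFr.fixScheme g F hF).presheaf.stalk w) := by
    intro w
    obtain ⟨U, hU, hxU, -⟩ :=
      exists_isAffineOpen_mem_and_subset (x := π (incl hF w)) (U := ⊤) trivial
    have hwV : incl hF w ∈ π ⁻¹ᵁ U := hxU
    have hV := isAffineOpen_preimage hpb hU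
    let φ : Γ(Y, π ⁻¹ᵁ U) →+* (FinFr.fixScheme g F hF).presheaf.stalk w :=
      ((incl hF).app (π ⁻¹ᵁ U) ≫
        (FinFr.fixScheme g F hF).presheaf.germ (incl hF ⁻¹ᵁ (π ⁻¹ᵁ U)) w hwV).hom
    have hφF : ∀ a, φ ((F.appLE (π ⁻¹ᵁ U) (π ⁻¹ᵁ U) (hG.le U)).hom a) = φ a := by
      intro a
      have h1 := Scheme.Hom.appLE_comp_appLE (incl hF) F (π ⁻¹ᵁ U) (π ⁻¹ᵁ U)
        (incl hF ⁻¹ᵁ (π ⁻¹ᵁ U)) (hG.le U) le_rfl
      rw [appLE_congr_hom (incl_comp hF) _ _ _ le_rfl, ← Scheme.Hom.app_eq_appLE] at h1
      exact congrArg ((FinFr.fixScheme g F hF).presheaf.germ (incl hF ⁻¹ᵁ (π ⁻¹ᵁ U)) w hwV).hom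
        (congrArg (fun m => CommRingCat.Hom.hom m a) h1)
    letI : Algebra K ((FinFr.fixScheme g F hF).presheaf.stalk w) :=
      (φ.comp (kConst g (π ⁻¹ᵁ U))).toAlgebra
    set M : Submodule K ((FinFr.fixScheme g F hF).presheaf.stalk w) :=
      Submodule.span K {b | b ^ p ^ e = b}
    have hmem : ∀ a, φ a ∈ M := by
      refine sections_induction hpb hU (fun s => ?_) (fun c => ?_)
        (fun a b ha hb => by rw [map_add]; exact M.add_mem ha hb)
        fun a b ha hb => by rw [map_mul]; exact mul_mem_span_fixed _ ha hb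
      · refine Submodule.subset_span (show φ ((π.app U).hom s) ^ p ^ e = _ from ?_)
        rw [← map_pow, ← hG.app U (hG.le U) s, hφF]
      · have h1 : φ (kConst g (π ⁻¹ᵁ U) c) = c • (1 : (FinFr.fixScheme g F hF).presheaf.stalk w) := by
          rw [Algebra.smul_def, mul_one]
          rfl
        rw [h1]
        exact M.smul_mem c (Submodule.subset_span (one_pow _))
    refine ⟨fun r ⟨m, hm⟩ => ?_⟩
    obtain ⟨r₀, rfl⟩ := (incl hF).stalkMap_surjective w r
    let := TopCat.Presheaf.algebra_section_stalk Y.presheaf ⟨incl hF w, hwV⟩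
    have := hV.isLocalization_stalk ⟨incl hF w, hwV⟩
    obtain ⟨a, t, rfl⟩ := IsLocalization.exists_mk'_eq (hV.primeIdealOf ⟨incl hF w, hwV⟩).asIdeal.primeCompl r₀
    have hg : ∀ a, (incl hF).stalkMap w (Y.presheaf.germ (π ⁻¹ᵁ U) _ hwV a) = φ a := fun a => by
      rw [Scheme.Hom.germ_stalkMap_apply]
      rfl
    have hu : IsUnit (φ t.1) := by
      rw [← hg]
      exact (IsLocalization.map_units
        (S := Y.presheaf.stalk (incl hF w)) t).map ((incl hF).stalkMap w).hom
    have hmk : (incl hF).stalkMap w (IsLocalization.mk' (Y.presheaf.stalk (incl hF w)) a t) *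
        φ t.1 = φ a := by
      rw [← hg, ← hg, ← map_mul]
      exact congrArg _ (IsLocalization.mk'_spec' (Y.presheaf.stalk (incl hF w)) a t ▸ mul_comm _ _)
    have h0 : φ a ^ m = 0 := by rw [← hmk, mul_pow, hm, zero_mul]
    have hle : m ≤ (p ^ e) ^ m :=
      (Nat.lt_pow_self (Nat.one_lt_pow he.ne' (Fact.out : p.Prime).one_lt)).le
    have ha : φ a = 0 := eq_zero_of_pow_eq_zero_fixed p e (hmem a) (m := m)
      (pow_eq_zero_of_le hle h0)
    rw [ha] at hmk
    exact hu.mul_left_eq_zero.1 hmk
  exact isReduced_of_isReduced_stalk _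

end Geometry

section Finite

variable {k₀ : Type u} [Field k₀] [Finite k₀] {K : Type u} [Field K] [IsAlgClosed K] [Algebra k₀ K]
variable {X Y : Scheme.{u}} {f : X ⟶ Spec (CommRingCat.of k₀)} {π : Y ⟶ X}
variable {g : Y ⟶ Spec (CommRingCat.of K)} {F : Y ⟶ Y} (hF : F ≫ g = g)

theorem finite_fixed [LocallyOfFiniteType f] [QuasiCompact f]
    (hpb : IsPullback π g f (Spec.map (CommRingCat.ofHom (algebraMap k₀ K))))
    {FX : X ⟶ X} (hFX : IsPowMap FX (Nat.card k₀)) (hFπ : F ≫ π = π ≫ FX) :
    Finite (FinFr.fixScheme g F hF) := by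
  classical
  have : LocallyOfFiniteType g := MorphismProperty.of_isPullback hpb inferInstance
  have hG := isPowLift_of_comm hFX π hFπ
  have hFX1 : IsPowMap FX (Nat.card k₀ ^ 1) := by rwa [pow_one]
  have hfin : Finite (Σ x : X, PointsOver f (k := K) x 1) := finite_sigma_pointsOver f Nat.one_pos
  have := Finite.of_equiv _ (fixedEquiv f hFX1 hpb hFπ hF).symm
  have key : ∀ w : FinFr.fixScheme g F hF,
      F (incl hF w) = incl hF w ∧ IsClosed ({incl hF w} : Set Y) := by
    intro w
    set x := incl hF w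
    have hb : Function.Bijective ((incl hF).residueFieldMap w) := by
      refine ⟨((incl hF).residueFieldMap w).hom.injective, fun b => ?_⟩
      obtain ⟨c, rfl⟩ := (FinFr.fixScheme g F hF).residue_surjective w b
      obtain ⟨d, rfl⟩ := (incl hF).stalkMap_surjective w c
      exact ⟨Y.residue x d,
        congrArg (fun m => CommRingCat.Hom.hom m d) (Scheme.residue_residueFieldMap (incl hF) w)⟩
    have : IsIso ((incl hF).residueFieldMap w) := (ConcreteCategory.isIso_iff_bijective _).2 hb
    have h2 : Y.fromSpecResidueField x ≫ F = Y.fromSpecResidueField x := by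
      rw [← cancel_epi (Spec.map ((incl hF).residueFieldMap w)), ← Category.assoc,
        Scheme.Hom.SpecMap_residueFieldMap_fromSpecResidueField, Category.assoc, incl_comp]
    have h1 : F x = x := congrArg (fun m : FinFr.fixScheme g F hF ⟶ Y => m w) (incl_comp hF)
    refine ⟨h1, ?_⟩
    have hs := surjective_resHom_of_fixed hpb Finite.one_lt_card hG x h1 (fixEnd_eq_self x h1 h2)
    rw [VarDim.closedPoint_iff_deg_eq_zero g]
    letI := (VarDim.resHom g x).toAlgebra
    have : Algebra.IsAlgebraic K (Y.residueField x) :=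
      ⟨fun a => by obtain ⟨c, rfl⟩ := hs a; exact isAlgebraic_algebraMap c⟩
    show Cardinal.toNat (Algebra.trdeg K (Y.residueField x)) = 0
    rw [trdeg_eq_zero, map_zero]
  let Ψ : FinFr.fixScheme g F hF → {p : Spec (CommRingCat.of K) ⟶ Y // p ≫ g = 𝟙 _ ∧ p ≫ F = p} :=
    fun w => ⟨pointOfClosedPoint g (incl hF w) (key w).2, pointOfClosedPoint_comp _ _ _, by
      refine ext_of_apply_closedPoint_eq g ?_ (pointOfClosedPoint_comp _ _ _) ?_
      · rw [Category.assoc, hF, pointOfClosedPoint_comp]
      · have e := pointOfClosedPoint_apply g (incl hF w) (key w).2 (IsLocalRing.closedPoint K)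
        exact (congrArg F e).trans ((key w).1.trans e.symm)⟩
  refine Finite.of_injective Ψ fun w w' h => (incl hF).isEmbedding.injective ?_
  have := congrArg (fun t : {p : Spec (CommRingCat.of K) ⟶ Y // p ≫ g = 𝟙 _ ∧ p ≫ F = p} =>
    t.1 (IsLocalRing.closedPoint K)) h
  exact ((pointOfClosedPoint_apply g (incl hF w) (key w).2 _).symm.trans this).trans
    (pointOfClosedPoint_apply g (incl hF w') (key w').2 _)

end Finite

/-- Reducedness of the fixed scheme of the Frobenius, in the frozen form. -/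
theorem isReduced_fixScheme_frob {k : Type u} [Field k] [Finite k]
    {X : Scheme.{u}} (f : X ⟶ Spec (CommRingCat.of k)) (FX : X ⟶ X) (hFb : FX.base = 𝟙 _)
    (hle : ∀ U : X.Opens, U ≤ FX ⁻¹ᵁ U)
    (hFapp : ∀ (U : X.Opens) (s : Γ(X, U)), (FX.appLE U U (hle U)).hom s = s ^ Nat.card k)
    (F : FinFr.ext (AlgebraicClosure k) f ⟶ FinFr.ext (AlgebraicClosure k) f)
    (hF1 : F ≫ FinFr.extπ (AlgebraicClosure k) f = FinFr.extπ (AlgebraicClosure k) f ≫ FX)
    (hF2 : F ≫ FinFr.extStr (AlgebraicClosure k) f = FinFr.extStr (AlgebraicClosure k) f) :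
    IsReduced (FinFr.fixScheme (FinFr.extStr (AlgebraicClosure k) f) F hF2) := by
  have := Fintype.ofFinite k
  obtain ⟨p, hp⟩ := CharP.exists k
  obtain ⟨e, hprime, he⟩ := FiniteField.card k p
  have : Fact p.Prime := ⟨hprime⟩
  have : CharP (AlgebraicClosure k) p :=
    charP_of_injective_algebraMap (algebraMap k (AlgebraicClosure k)).injective p
  refine isReduced_fixScheme hF2 (IsPullback.of_hasPullback f
    (FinFr.specι k (AlgebraicClosure k))) p e e.pos ?_
  rw [← he, ← Nat.card_eq_fintype_card]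
  exact isPowLift_of_comm (isPowMap_of_hyp FX _ hFb hle hFapp) _ hF1

end

end Groth.Agent.ZetaLib
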