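import Mathlib.AlgebraicGeometry.Morphisms.Smooth
import Mathlib.RingTheory.RingHom.Smooth
import Mathlib.FieldTheory.Finite.Basic
import Mathlib.RingTheory.Localization.Away.Basic

/-!
# Every rational hyperplane is tangent to `Σ (X_i Y_i^q - Y_i X_i^q) = 0`
-/

universe u

open AlgebraicGeometry

namespace Groth.Agent.ZetaLib.Tangent

noncomputable section

variable {k : Type u} [Field k] [Fintype k] {n : ℕ}

local notation "q" => Fintype.card k
local notation "ι" => Fin (n + 1) ⊕ Fin (n + 1)

/-- The form. -/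
def phi {A : Type*} [CommRing A] (q' : ℕ) (d : ι → A) : A :=
  ∑ i : Fin (n + 1), (d (.inl i) * d (.inr i) ^ q' - d (.inr i) * d (.inl i) ^ q')

theorem phi_map {A B : Type*} [CommRing A] [CommRing B] (f : A →+* B) (q' : ℕ) (d : ι → A) :
    f (phi q' d) = phi q' (fun v => f (d v)) := by
  simp [phi, map_sum]

theorem phi_smul {A : Type*} [CommRing A] (q' : ℕ) (e : A) (d : ι → A) :
    phi q' (fun v => e * d v) = e ^ (q' + 1) * phi q' d := by
  simp only [phi, mul_pow, Finset.mul_sum, pow_succ']
  exact Finset.sum_congr rfl fun i _ => by ring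

/-- The rational point whose tangent hyperplane is `Σ c_v x_v = 0`. -/
def point (c : ι → k) : ι → k :=
  Sum.elim (fun i => - c (.inr i)) (fun i => c (.inl i))

variable {A : Type*} [CommRing A] [Algebra k A]

theorem linear_eq (c : ι → k) (d : ι → A) :
    ∑ v, algebraMap k A (c v) * (algebraMap k A (point c v) + d v) =
      ∑ v, algebraMap k A (c v) * d v := by
  simp only [mul_add, Finset.sum_add_distrib, add_eq_right]
  simp only [← map_mul, ← map_sum, Fintype.sum_sum_type, point, Sum.elim_inl, Sum.elim_inr]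
  rw [← Finset.sum_add_distrib, Finset.sum_eq_zero (fun i _ => by ring), map_zero]

/-- Expansion at the point. -/
theorem phi_eq (c : ι → k) (d : ι → A) :
    phi q (fun v => algebraMap k A (point c v) + d v) =
      (∑ v, algebraMap k A (c v) * d v) - (∑ v, algebraMap k A (c v) * d v) ^ q + phi q d := by
  let φ := FiniteField.frobeniusAlgHom k A
  have hφ : ∀ x : A, φ x = x ^ q := fun _ => rfl
  have h1 : ∀ (a : k) (x : A), (algebraMap k A a + x) ^ q = algebraMap k A a + x ^ q := fun a x => by
    rw [← hφ, ← hφ, map_add, AlgHom.commutes]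
  have h2 : (∑ v, algebraMap k A (c v) * d v) ^ q = ∑ v, algebraMap k A (c v) * d v ^ q := by
    rw [← hφ, map_sum]
    exact Finset.sum_congr rfl fun v _ => by rw [map_mul, AlgHom.commutes, hφ]
  rw [h2]
  simp only [phi, h1, point, Sum.elim_inl, Sum.elim_inr, map_neg, Fintype.sum_sum_type,
    ← Finset.sum_add_distrib, ← Finset.sum_sub_distrib]
  refine Finset.sum_congr rfl fun i _ => ?_
  have h3 : (-algebraMap k A (c (.inr i)) + d (.inl i)) ^ q =
      -algebraMap k A (c (.inr i)) + d (.inl i) ^ q := by rw [← map_neg, h1]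
  rw [h3]
  ring

theorem not_smooth (hn : 1 ≤ n)
    (F L : MvPolynomial ι k)
    (hF : F = ∑ i : Fin (n + 1), (MvPolynomial.X (Sum.inl i) * MvPolynomial.X (Sum.inr i) ^ q -
      MvPolynomial.X (Sum.inr i) * MvPolynomial.X (Sum.inl i) ^ q))
    (c : ι → k) (hc : c ≠ 0)
    (hL : L = ∑ v, MvPolynomial.C (c v) * MvPolynomial.X v) :
    ¬ ∀ w : ι,
      Smooth (Spec.map (CommRingCat.ofHom (algebraMap k
        (Localization.Away (Ideal.Quotient.mk (Ideal.span {F, L}) (MvPolynomial.X w)))))) := by
  classical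
  intro hsm
  set P := point c with hP
  obtain ⟨w₀, hw₀⟩ : ∃ v, c v ≠ 0 := Function.ne_iff.1 hc
  obtain ⟨w, hw⟩ : ∃ w, P w ≠ 0 := by
    rcases w₀ with i | i
    · exact ⟨.inr i, by simpa [P, point] using hw₀⟩
    · exact ⟨.inl i, by simpa [P, point] using hw₀⟩
  have hsmw := hsm w
  rw [HasRingHomProperty.Spec_iff (P := @Smooth)] at hsmw
  rw [CommRingCat.hom_ofHom, RingHom.smooth_algebraMap] at hsmw
  haveI := hsmw.formallySmooth
  set R := MvPolynomial ι k ⧸ Ideal.span {F, L}
  set B := Localization.Away (Ideal.Quotient.mk (Ideal.span {F, L}) (MvPolynomial.X w))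
  -- two tangent vectors spanning a non-isotropic plane
  haveI : Nontrivial (Fin (n + 1)) := Fin.nontrivial_iff_two_le.2 (by omega)
  obtain ⟨j, hj⟩ := exists_ne (Sum.elim id id w₀)
  let e : ι → k := fun v => if v = w₀ then (c w₀)⁻¹ else 0
  have he : ∀ (b : k), ∑ v, c v * (b * e v) = b := fun b => by
    rw [Finset.sum_eq_single w₀ (fun v _ hv => by simp [e, if_neg hv]) (by simp)]
    simp only [e, if_pos]
    field_simp
  let a : ι → k := fun v => (if v = Sum.inl j then (1 : k) else 0) - c (.inl j) * e v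
  let b : ι → k := fun v => (if v = Sum.inr j then (1 : k) else 0) - c (.inr j) * e v
  have ha : ∑ v, c v * a v = 0 := by
    simp only [a, mul_sub, Finset.sum_sub_distrib]
    rw [he, Finset.sum_eq_single (Sum.inl j) (fun v _ hv => by simp [if_neg hv]) (by simp)]
    simp
  have hb : ∑ v, c v * b v = 0 := by
    simp only [b, mul_sub, Finset.sum_sub_distrib]
    rw [he, Finset.sum_eq_single (Sum.inr j) (fun v _ hv => by simp [if_neg hv]) (by simp)]
    simp
  have hω : ∑ i : Fin (n + 1), (a (.inl i) * b (.inr i) - a (.inr i) * b (.inl i)) = 1 := by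
    rw [Finset.sum_eq_single j]
    · have h1 : e (.inl j) = 0 := if_neg fun h => hj (by rw [← h]; rfl)
      have h2 : e (.inr j) = 0 := if_neg fun h => hj (by rw [← h]; rfl)
      simp [a, b, h1, h2]
    · intro i _ hi
      simp [a, b, hi]
      ring
    · simp
  -- a one-parameter family of tangent vectors
  let T := Polynomial k
  let v₁ : ι → T := fun v => Polynomial.C (a v) + Polynomial.X * Polynomial.C (b v)
  have hLv : ∑ v, Polynomial.C (c v) * v₁ v = 0 := by
    simp only [v₁, mul_add, Finset.sum_add_distrib]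
    have : ∀ v, Polynomial.C (c v) * (Polynomial.X * Polynomial.C (b v)) =
        Polynomial.X * Polynomial.C (c v * b v) := fun v => by rw [map_mul]; ring
    simp only [this, ← map_mul, ← Finset.mul_sum, ← map_sum, ha, hb, map_zero, mul_zero, add_zero]
  have hΦ : phi q v₁ = Polynomial.X ^ q - Polynomial.X := by
    have h1 : ∀ v, v₁ v ^ q = Polynomial.C (a v) + Polynomial.X ^ q * Polynomial.C (b v) := fun v => by
      show (FiniteField.frobeniusAlgHom k (Polynomial k)) (v₁ v) = _
      simp only [v₁, map_add, map_mul]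
      simp [← map_pow, FiniteField.pow_card]
    simp only [phi, h1]
    trans ∑ i : Fin (n + 1), Polynomial.C (a (.inl i) * b (.inr i) - a (.inr i) * b (.inl i)) *
        (Polynomial.X ^ q - Polynomial.X)
    · refine Finset.sum_congr rfl fun i _ => ?_
      simp only [v₁, map_sub, map_mul]
      ring
    · rw [← Finset.sum_mul, ← map_sum, hω, map_one, one_mul]
  -- the test algebras
  let S := Polynomial T
  let A : Type u := S ⧸ Ideal.span ({(Polynomial.X : S) ^ (q + 2)} : Set S)
  letI : CommRing A := Ideal.Quotient.commRing _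
  letI : Algebra k A := Ideal.Quotient.algebra k
  let ε : A := Ideal.Quotient.mk _ Polynomial.X
  let ν : ι → A := fun v => Ideal.Quotient.mk _ (Polynomial.C (v₁ v))
  have hε : ε ^ (q + 2) = 0 := by
    show Ideal.Quotient.mk _ Polynomial.X ^ _ = _
    rw [← map_pow, Ideal.Quotient.eq_zero_iff_mem]
    exact Ideal.mem_span_singleton_self _
  have hcA : ∀ v, algebraMap k A (c v) = Ideal.Quotient.mk _ (Polynomial.C (Polynomial.C (c v))) :=
    fun v => by
      show Ideal.Quotient.mk (Ideal.span ({(Polynomial.X : S) ^ (q + 2)} : Set S)) (algebraMap k S (c v)) = _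
      congr 1
  have hLν : ∑ v, algebraMap k A (c v) * ν v = 0 := by
    simp only [hcA, ν, ← map_mul, ← map_sum, hLv, map_zero]
  let I : Ideal A := Ideal.span {ε ^ 2}
  have hI : IsNilpotent I := ⟨q + 2, by
    rw [Ideal.span_singleton_pow, ← pow_mul, mul_comm, pow_mul, hε, zero_pow two_ne_zero,
      Ideal.span_singleton_zero, Ideal.zero_eq_bot]⟩
  let π := Ideal.Quotient.mk I
  let e₀ : A ⧸ I := π ε
  have he₀ : e₀ ^ 2 = 0 := by
    show π ε ^ 2 = 0
    rw [← map_pow, Ideal.Quotient.eq_zero_iff_mem]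
    exact Ideal.mem_span_singleton_self _
  let pt : ι → A ⧸ I := fun v => algebraMap k (A ⧸ I) (P v) + e₀ * π (ν v)
  have hL0 : ∑ v, algebraMap k (A ⧸ I) (c v) * (e₀ * π (ν v)) = 0 := by
    have : ∀ v, algebraMap k (A ⧸ I) (c v) * (e₀ * π (ν v)) =
        e₀ * π (algebraMap k A (c v) * ν v) := fun v => by
      rw [map_mul, show π (algebraMap k A (c v)) = algebraMap k (A ⧸ I) (c v) from rfl]; ring
    simp only [this, ← Finset.mul_sum, ← map_sum, hLν, map_zero, mul_zero]
  let f₀ : MvPolynomial ι k →ₐ[k] A ⧸ I := MvPolynomial.aeval pt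
  have hf₀L : f₀ L = 0 := by
    rw [hL, map_sum]
    simp only [map_mul, f₀, MvPolynomial.aeval_C, MvPolynomial.aeval_X, pt, P]
    rw [linear_eq, hL0]
  have hf₀F : f₀ F = 0 := by
    have : f₀ F = phi q pt := by
      rw [hF, phi, map_sum]
      simp [f₀]
    rw [this]
    simp only [pt, P]
    rw [phi_eq, hL0, phi_smul, zero_pow Fintype.card_ne_zero, pow_succ' e₀]
    have h2 : e₀ ^ q = 0 := pow_eq_zero_of_le Fintype.one_lt_card he₀
    rw [h2]; simp
  let f₁ : R →ₐ[k] A ⧸ I := Ideal.Quotient.liftₐ _ f₀ fun x hx => by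
    have : Ideal.span {F, L} ≤ RingHom.ker f₀ := Ideal.span_le.2 (by
      rintro y (rfl | rfl) <;> assumption)
    exact this hx
  have hunit : IsUnit (f₁ (Ideal.Quotient.mk _ (MvPolynomial.X w))) := by
    show IsUnit (f₀ (MvPolynomial.X w))
    rw [MvPolynomial.aeval_X]
    show IsUnit (algebraMap k (A ⧸ I) (P w) + e₀ * π (ν w))
    exact IsNilpotent.isUnit_add_left_of_commute ⟨2, by rw [mul_pow, he₀, zero_mul]⟩
      ((isUnit_iff_ne_zero.2 hw).map _) (Commute.all _ _)
  let g₀ : B →ₐ[k] A ⧸ I := IsLocalization.liftAlgHom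
    (M := Submonoid.powers (Ideal.Quotient.mk (Ideal.span {F, L}) (MvPolynomial.X w)))
    (f := f₁) (by rintro ⟨_, m, rfl⟩; rw [map_pow]; exact hunit.pow m)
  let G : B →ₐ[k] A := Algebra.FormallySmooth.lift I hI g₀
  let G' : MvPolynomial ι k →ₐ[k] A :=
    G.comp ((IsScalarTower.toAlgHom k R B).comp (Ideal.Quotient.mkₐ k _))
  have hG' : ∀ v, ∃ t, G' (MvPolynomial.X v) = algebraMap k A (P v) + ε * (ν v + ε * t) := by
    intro v
    have h1 : π (G' (MvPolynomial.X v)) = π (algebraMap k A (P v) + ε * ν v) := by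
      have hg : g₀ (algebraMap R B (Ideal.Quotient.mk _ (MvPolynomial.X v))) = pt v := by
        simp only [g₀, IsLocalization.liftAlgHom_apply]
        erw [IsLocalization.lift_eq]
        show f₀ _ = _
        rw [MvPolynomial.aeval_X]
      show π (G _) = _
      rw [Algebra.FormallySmooth.mk_lift]
      exact hg
    obtain ⟨t, ht⟩ := Ideal.mem_span_singleton'.1 (Ideal.Quotient.eq.1 h1)
    exact ⟨t, by linear_combination -ht⟩
  choose t ht using hG'
  let d : ι → A := fun v => ε * (ν v + ε * t v)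
  have hFL : ∀ x ∈ ({F, L} : Set (MvPolynomial ι k)), G' x = 0 := fun x hx => by
    show G (algebraMap R B (Ideal.Quotient.mk _ x)) = 0
    rw [Ideal.Quotient.eq_zero_iff_mem.2 (Ideal.subset_span hx), map_zero, map_zero]
  have hLd : ∑ v, algebraMap k A (c v) * d v = 0 := by
    have h := hFL L (by simp)
    rw [hL, map_sum] at h
    simp only [map_mul, MvPolynomial.algHom_C, ht, P] at h
    rwa [linear_eq] at h
  have hΦd : phi q d = 0 := by
    have h := hFL F (by simp)
    rw [hF, map_sum] at h
    simp only [map_sub, map_mul, map_pow, ht] at h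
    change phi q (fun v => algebraMap k A (P v) + d v) = 0 at h
    rwa [hP, phi_eq, hLd, zero_pow Fintype.card_ne_zero, sub_zero, zero_add] at h
  rw [phi_smul q ε] at hΦd
  obtain ⟨s, hs⟩ : ε ∣ phi q (fun v => ν v + ε * t v) - phi q ν := by
    rw [← Ideal.mem_span_singleton, ← Ideal.Quotient.eq, phi_map, phi_map]
    congr 1
    funext v
    rw [map_add, map_mul, Ideal.Quotient.eq_zero_iff_mem.2 (Ideal.mem_span_singleton_self ε),
      zero_mul, add_zero]
  have hfin : ε ^ (q + 1) * phi q ν = 0 := by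
    have h2 : ε ^ (q + 1) * (ε * s) = 0 := by
      rw [← mul_assoc, ← pow_succ]
      exact mul_eq_zero_of_left hε _
    rw [← hs, mul_sub, hΦd, zero_sub, neg_eq_zero] at h2
    exact h2
  have hmem : (Polynomial.X : S) ^ (q + 1) * Polynomial.C (phi q v₁) ∈
      Ideal.span {(Polynomial.X : S) ^ (q + 2)} := by
    rw [← Ideal.Quotient.eq_zero_iff_mem, map_mul, map_pow, phi_map, phi_map]
    exact hfin
  rw [Ideal.mem_span_singleton, Polynomial.X_pow_dvd_iff] at hmem
  have h := hmem (q + 1) (by omega)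
  rw [Polynomial.coeff_X_pow_mul' _ (q + 1) (q + 1), if_pos le_rfl, Nat.sub_self,
    Polynomial.coeff_C_zero, hΦ] at h
  exact FiniteField.X_pow_card_sub_X_ne_zero k Fintype.one_lt_card h

end

end Groth.Agent.ZetaLib.Tangent
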